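import Groth.Agent.H29Fitt.Sheaf

/-!
# Sections of finitely presented modules over affine opens; Fitting ideals of such modules are
finitely generated
-/

set_option autoImplicit false

universe u

open CategoryTheory Limits AlgebraicGeometry TopologicalSpace Opposite

namespace Groth.Agent.H29Fitt

variable {X : Scheme.{u}}

/-- Local finite presentations in terms of restriction to opens. -/
theorem exists_presentation_nhd (M : X.Modules) (hM : CohB1.IsFP M) (x : X) :
    ∃ (W : X.Opens) (_ : x ∈ W) (P : (M.restrict W.ι).Presentation), P.IsFinite := by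
  obtain ⟨σ, hσ⟩ :=
    SheafOfModules.IsFinitePresentation.exists_quasicoherentData (R := X.ringCatSheaf) M
  obtain ⟨i, hi⟩ := Opens.mem_iSup.1
    (((Opens.coversTop_iff _ _).1 σ.coversTop).ge (Opens.mem_top x))
  let W : X.Opens := σ.X i
  let e := Scheme.Modules.overEquiv W
  let P' := @SheafOfModules.Presentation.map _ _ _ _ _ _ _ _ _ _ _ _ _
    (σ.presentation i) e.functor (by exact e.toAdjunction.leftAdjoint_preservesColimits)
    ((Scheme.Modules.restrictUnitIso W.ι).symm ≪≫
      ((Scheme.Modules.overFunctorEquiv W).app (SheafOfModules.unit X.ringCatSheaf)).symm)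
  let f := (Scheme.Modules.overFunctorEquiv W).app M
  refine ⟨W, hi, H10Coh.presOfIso f P', ?_⟩
  exact H10Coh.presOfIso_isFinite f P'
    ⟨⟨(hσ.isFinite_presentation i).isFiniteType_generators.finite⟩,
      ⟨(hσ.isFinite_presentation i).isFiniteType_relations.finite⟩⟩

theorem finitePresentation_free (I : Type u) [Fintype I] (W : X.Opens) :
    Module.FinitePresentation Γ(X, W) Γ(H10Coh.freeMod X I, W) := by
  classical
  let e : I → Γ(H10Coh.freeMod X I, W) := fun i => (H10Coh.freeIncl I i).app W (H10Coh.oneSec W)
  let l := Fintype.linearCombination Γ(X, W) e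
  have hex := fun i : I => H10Coh.exists_free_desc (X := X) (N := Coh.structureModule X)
    fun j => if j = i then 𝟙 _ else 0
  choose p hp using hex
  have hpe : ∀ i j, (p i).app W (e j) = if j = i then H10Coh.oneSec W else 0 := by
    intro i j
    refine ((ConcreteCategory.comp_apply ((H10Coh.freeIncl I j).app W) ((p i).app W)
      (H10Coh.oneSec W)).symm.trans
      (congrArg (fun φ : Coh.structureModule X ⟶ Coh.structureModule X =>
        φ.app W (H10Coh.oneSec W)) (hp i j))).trans ?_
    split_ifs <;> rfl
  have hbij : Function.Bijective l := by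
    refine ⟨?_, fun z => ?_⟩
    · rw [← LinearMap.ker_eq_bot, LinearMap.ker_eq_bot']
      intro c hc
      funext i
      have h := congrArg ((p i).app W) hc
      simp only [l, Fintype.linearCombination_apply, map_sum, Scheme.Modules.Hom.app_smul, hpe,
        smul_ite, smul_zero, Finset.sum_ite_eq', Finset.mem_univ, if_true, map_zero] at h
      exact (mul_one (c i)).symm.trans h
    · have hz := H10Coh.free_sections_span I W z
      rw [← Fintype.range_linearCombination] at hz
      exact hz
  haveI := Module.finitePresentation_of_projective Γ(X, W) (I → Γ(X, W))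
  exact Module.finitePresentation_of_surjective l hbij.2
    (by rw [LinearMap.ker_eq_bot.2 hbij.1]; exact Submodule.fg_bot)

/-- The map on sections as a linear map. -/
noncomputable def appLin {M N : X.Modules} (φ : M ⟶ N) (W : X.Opens) :
    Γ(M, W) →ₗ[Γ(X, W)] Γ(N, W) where
  toFun := φ.app W
  map_add' := map_add _
  map_smul' a m := φ.app_smul a m

/-- Sections over affine opens of a module with a finite global presentation are of finite
presentation. -/
theorem finitePresentation_of_presentation (M : X.Modules) [M.IsQuasicoherent]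
    (P : M.Presentation) (hP : P.IsFinite) {W : X.Opens} (hW : IsAffineOpen W) :
    Module.FinitePresentation Γ(X, W) Γ(M, W) := by
  classical
  haveI := hP.isFiniteType_generators.finite
  haveI := hP.isFiniteType_relations.finite
  have := Fintype.ofFinite P.generators.I
  have hfree : (SheafOfModules.free (R := X.ringCatSheaf) P.generators.I).IsQuasicoherent :=
    H10Coh.isQuasicoherent_coproduct' P.generators.I
  let π' : H10Coh.freeMod X P.generators.I ⟶ M := P.generators.π
  haveI : Epi π' := P.generators.epi
  have hs : Function.Surjective (π'.app W) :=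
    @H10Coh.surjective_app_of_epi _ _ _ π' hfree ‹_› P.generators.epi _ hW
  have hK : (kernel π').IsQuasicoherent :=
    @H10Coh.isQuasicoherent_kernel _ _ _ π' hfree ‹_›
  let G : (kernel π').GeneratingSections := P.relations
  haveI : Finite G.I := hP.isFiniteType_relations.finite
  haveI : Module.Finite Γ(X, W) Γ(kernel π', W) :=
    @H10Coh.finite_sections_of_generators _ _ hK G ‹_› _ hW
  have hker : LinearMap.ker (appLin π' W) = LinearMap.range (appLin (kernel.ι π') W) := by
    refine le_antisymm (fun z hz => ?_) ?_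
    · have hS : (ShortComplex.mk (kernel.ι π') π' (kernel.condition π')).ShortExact :=
        { exact := ShortComplex.exact_of_f_is_kernel _ (kernelIsKernel π') }
      obtain ⟨y, hy⟩ := H10Coh.exists_app_eq_of_exact hS W z hz
      exact ⟨y, hy⟩
    · rintro _ ⟨y, rfl⟩
      exact (ConcreteCategory.comp_apply ((kernel.ι π').app W) (π'.app W) y).symm.trans
        (congrArg (fun φ : kernel π' ⟶ M => φ.app W y) (kernel.condition π'))
  haveI := finitePresentation_free (X := X) P.generators.I W
  refine Module.finitePresentation_of_surjective (appLin π' W) hs ?_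
  rw [hker]
  exact Submodule.fg_range _

/-- A semilinear bijection carries finite presentation. -/
theorem finitePresentation_of_semilinear {A B M N : Type u} [CommRing A] [CommRing B]
    [AddCommGroup M] [AddCommGroup N] [Module A M] [Module B N] (σ : A →+* B)
    (hσ : Function.Bijective σ) (e : M →+ N) (he : ∀ (a : A) (m : M), e (a • m) = σ a • e m)
    (hb : Function.Bijective e) [Module.FinitePresentation A M] :
    Module.FinitePresentation B N := by
  letI := σ.toAlgebra
  letI := Module.compHom N σ
  haveI : IsScalarTower A B N := ⟨fun a b n => mul_smul (σ a) b n⟩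
  let φ : M →ₗ[A] N := { toFun := e, map_add' := map_add e, map_smul' := he }
  haveI hl : IsLocalization (⊥ : Submonoid A) B := by
    refine ⟨fun y => ?_, fun z => ?_, fun {a b} h => ?_⟩
    · rw [show (y : A) = 1 from y.2, map_one]; exact isUnit_one
    · obtain ⟨a, rfl⟩ := hσ.2 z
      exact ⟨(a, 1), by simp [RingHom.algebraMap_toAlgebra]⟩
    · exact ⟨1, by rw [hσ.1 h]⟩
  haveI : IsLocalizedModule (⊥ : Submonoid A) φ := by
    refine ⟨fun s => ?_, fun n => ?_, fun {a b} h => ?_⟩
    · rw [show (s : A) = 1 from s.2, map_one]; exact isUnit_one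
    · obtain ⟨m, rfl⟩ := hb.2 n
      exact ⟨(m, 1), one_smul _ _⟩
    · exact ⟨1, by rw [hb.1 h]⟩
  exact FinitePresentation.of_isBaseChange φ
    ((isLocalizedModule_iff_isBaseChange (⊥ : Submonoid A) B φ).mp inferInstance)

theorem isQCoh_of_isFP (M : X.Modules) (hM : CohB1.IsFP M) : Coh.IsQCoh M := by
  haveI : SheafOfModules.IsFinitePresentation (R := X.ringCatSheaf) M := hM
  exact (inferInstance : SheafOfModules.IsQuasicoherent (R := X.ringCatSheaf) M)

theorem isFT_of_isFP (M : X.Modules) (hM : CohB1.IsFP M) : CohB1.IsFT M := by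
  haveI : SheafOfModules.IsFinitePresentation (R := X.ringCatSheaf) M := hM
  exact (inferInstance : SheafOfModules.IsFiniteType (R := X.ringCatSheaf) M)

theorem exists_basicOpen_finitePresentation (M : X.Modules) (hM : CohB1.IsFP M) {U : X.Opens}
    (hU : IsAffineOpen U) (x : U) :
    ∃ t : Γ(X, U), x.1 ∈ X.basicOpen t ∧
      Module.FinitePresentation Γ(X, X.basicOpen t) Γ(M, X.basicOpen t) := by
  obtain ⟨W, hW, P, hP⟩ := exists_presentation_nhd M hM x.1
  obtain ⟨t, htle, hxt⟩ := hU.exists_basicOpen_le ⟨x.1, hW⟩ x.2
  haveI : M.IsQuasicoherent := isQCoh_of_isFP M hM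
  haveI := Scheme.Modules.isQuasicoherent_restrictFunctor W.ι M
  have hpre : W.ι ''ᵁ (W.ι ⁻¹ᵁ X.basicOpen t) = X.basicOpen t := by
    rw [Scheme.Hom.image_preimage_eq_opensRange_inf, Scheme.Opens.opensRange_ι]
    exact inf_eq_right.2 htle
  have haff : IsAffineOpen (W.ι ⁻¹ᵁ X.basicOpen t) := by
    rw [← Scheme.Hom.isAffineOpen_iff_of_isOpenImmersion W.ι, hpre]
    exact hU.basicOpen t
  refine ⟨t, hxt, hpre ▸ ?_⟩
  haveI : Module.FinitePresentation Γ(W.toScheme, W.ι ⁻¹ᵁ X.basicOpen t)
      Γ(M.restrict W.ι, W.ι ⁻¹ᵁ X.basicOpen t) :=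
    @finitePresentation_of_presentation _ _ ‹_› P hP _ haff
  exact finitePresentation_of_semilinear (W.ι.appIso _).inv.hom
    (ConcreteCategory.bijective_of_isIso (W.ι.appIso _).inv)
    (M.restrictAppIso W.ι _).hom.hom (fun a m => rfl)
    (ConcreteCategory.bijective_of_isIso (M.restrictAppIso W.ι _).hom)

/-- Fitting ideals of finitely presented modules are finitely generated on affine opens. -/
theorem fg_ideal (M : X.Modules) (hM : CohB1.IsFP M) (r : ℕ) (U : X.affineOpens) :
    (Fitt.ideal Γ(X, U.1) Γ(M, U.1) r).FG := by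
  have hq := isQCoh_of_isFP M hM
  have hft := isFT_of_isFP M hM
  choose t ht hfp using fun x : U.1 => exists_basicOpen_finitePresentation M hM U.2 x
  have hspan : Ideal.span (Set.range t) = ⊤ := by
    rw [← U.2.self_le_iSup_basicOpen_iff]
    intro x hx
    exact Opens.mem_iSup.2 ⟨⟨t ⟨x, hx⟩, _, rfl⟩, ht ⟨x, hx⟩⟩
  refine Ideal.fg_of_localizationSpan _ hspan fun g => ?_
  obtain ⟨x, hx⟩ := g.2
  rw [← hx]
  haveI := U.2.isLocalization_basicOpen (t x)
  haveI := hfp x
  haveI := finite_sections M hq hft ⟨X.basicOpen (t x), U.2.basicOpen (t x)⟩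
  have h := map_ideal_basicOpen M hq hft r U (t x)
  let e := IsLocalization.algEquiv (Submonoid.powers (t x)) Γ(X, X.basicOpen (t x))
    (Localization.Away (t x))
  have hmap : (Fitt.ideal Γ(X, U.1) Γ(M, U.1) r).map
      (algebraMap Γ(X, U.1) (Localization.Away (t x))) =
      (Fitt.ideal Γ(X, X.basicOpen (t x)) Γ(M, X.basicOpen (t x)) r).map e.toAlgHom.toRingHom := by
    rw [← h, Ideal.map_map]
    congr 1
    ext a
    exact (e.commutes a).symm
  rw [hmap]
  exact (ideal_fg r).map _

end Groth.Agent.H29Fitt
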