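import Groth.Agent.H29Fitt.StrictTransformFree
import Groth.Agent.H29Omega.SheafFinite
import Groth.Prelude.Def_CInt

/-!
# Blowing up Fitting ideals of modules which are locally free on a schematically dense open
-/

set_option autoImplicit false

universe u

open CategoryTheory Limits AlgebraicGeometry TopologicalSpace Opposite

namespace Groth.Agent.H29Fitt

variable {X : Scheme.{u}}

/-- If `F` is locally free of rank `k` on an open, `Fit_k` is the unit ideal there. -/
theorem comap_sheafIdeal_eq_top (F : X.Modules) (hF : Coh.IsQCoh F)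
    (hft : CohB1.IsFT F) (O : X.Opens) {k : ℕ} (hfree : FlatMod.IsFinLocFreeOfRank k (F.restrict O.ι)) :
    (Fitt.sheafIdeal F k).comap O.ι = ⊤ := by
  let e := (Scheme.Modules.restrictFunctorIsoPullback O.ι).app F
  have hq := isQCoh_pullback O.ι F hF
  have hft' := isFT_pullback O.ι F hF hft
  have hfree' : FlatMod.IsFinLocFreeOfRank k ((Scheme.Modules.pullback O.ι).obj F) := fun x => by
    obtain ⟨U, hx, ⟨φ⟩⟩ := hfree x
    exact ⟨U, hx, ⟨(Scheme.Modules.restrictFunctor U.ι).mapIso e.symm ≪≫ φ⟩⟩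
  rw [sheafIdeal_comap O.ι F hF hft]
  exact ((isFinLocFreeOfRank_iff _ hq hft' k).1 hfree').2 k le_rfl

theorem disjoint_support (F : X.Modules) (hF : Coh.IsQCoh F) (hft : CohB1.IsFT F) (O : X.Opens)
    {k : ℕ} (hfree : FlatMod.IsFinLocFreeOfRank k (F.restrict O.ι)) :
    Disjoint ((Fitt.sheafIdeal F k).support : Set X) (O : Set X) := by
  rw [Set.disjoint_left]
  intro x hx hxO
  have h := congrArg Scheme.IdealSheafData.support (comap_sheafIdeal_eq_top F hF hft O hfree)
  rw [Scheme.IdealSheafData.support_comap, Scheme.IdealSheafData.support_top] at h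
  have hmem : (⟨x, hxO⟩ : O) ∈ (Fitt.sheafIdeal F k).support.preimage O.ι.continuous := hx
  rw [h] at hmem
  exact hmem

/-- An ideal sheaf vanishing on a schematically dense open is zero. -/
theorem eq_bot_of_comap_schDense (I : X.IdealSheafData) (U : X.Opens)
    (hU : CInt.IsSchematicallyDense U) (h : I.comap U.ι = ⊥) : I = ⊥ := by
  refine Scheme.IdealSheafData.ext (funext fun V => eq_bot_iff.mpr fun a ha => hU V.1 ?_)
  rw [map_zero]
  refine TopCat.Sheaf.eq_of_locally_eq' X.sheaf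
    (fun W : {W : X.affineOpens // W.1 ≤ V.1 ⊓ U} => W.1.1) (V.1 ⊓ U) (fun W => homOfLE W.2) ?_ _ _
    fun W => ?_
  · intro x hx
    obtain ⟨_, ⟨W, hW : IsAffineOpen W, rfl⟩, hxW, hle⟩ :=
      X.isBasis_affineOpens.exists_subset_of_mem_open hx (V.1 ⊓ U).isOpen
    exact Opens.mem_iSup.2 ⟨⟨⟨W, hW⟩, hle⟩, hxW⟩
  · refine Eq.trans ?_ (map_zero (X.presheaf.map (homOfLE W.2).op).hom).symm
    refine (H10Coh.rres_rres inf_le_left W.2 a).trans ?_
    have hm := I.ideal_le_comap_ideal (U := W.1) (V := V) (W.2.trans inf_le_left) ha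
    rw [Ideal.mem_comap, ideal_eq_bot_of_comap_ι I U h W.1 (W.2.trans inf_le_right)] at hm
    exact hm

/-- Pullbacks of finitely presented modules have finitely presented sections on small affines. -/
theorem exists_nhd_finitePresentation_pullback {X' : Scheme.{u}} (b : X' ⟶ X) (F : X.Modules)
    (hF : CohB1.IsFP F) (x : X') :
    ∃ O : X'.Opens, x ∈ O ∧ ∀ V : X'.Opens, IsAffineOpen V → V ≤ O →
      Module.FinitePresentation Γ(X', V) Γ((Scheme.Modules.pullback b).obj F, V) := by
  obtain ⟨W, hW, P, hP⟩ := exists_presentation_nhd F hF (b x)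
  refine ⟨b ⁻¹ᵁ W, hW, fun V hV hle => ?_⟩
  let ι := (b ⁻¹ᵁ W).ι
  let P₁ := presentationPullback (b.resLE W (b ⁻¹ᵁ W) le_rfl) P
  let P₂ := H10Coh.presOfIso (pullbackRestrictIso b F W) P₁
  have hP₂ : P₂.IsFinite := H10Coh.presOfIso_isFinite _ P₁
    ⟨⟨hP.isFiniteType_generators.finite⟩, ⟨hP.isFiniteType_relations.finite⟩⟩
  haveI : ((Scheme.Modules.pullback b).obj F).IsQuasicoherent :=
    isQCoh_pullback b F (isQCoh_of_isFP F hF)
  haveI := Scheme.Modules.isQuasicoherent_restrictFunctor ι ((Scheme.Modules.pullback b).obj F)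
  have hpre : ι ''ᵁ (ι ⁻¹ᵁ V) = V := by
    rw [Scheme.Hom.image_preimage_eq_opensRange_inf, Scheme.Opens.opensRange_ι]
    exact inf_eq_right.2 hle
  have haff : IsAffineOpen (ι ⁻¹ᵁ V) := by
    rw [← Scheme.Hom.isAffineOpen_iff_of_isOpenImmersion ι, hpre]
    exact hV
  rw [← hpre]
  haveI := @finitePresentation_of_presentation _ _ ‹_› P₂ hP₂ _ haff
  exact finitePresentation_of_semilinear (ι.appIso _).inv.hom
    (ConcreteCategory.bijective_of_isIso (ι.appIso _).inv)
    (((Scheme.Modules.pullback b).obj F).restrictAppIso ι _).hom.hom (fun a m => rfl)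
    (ConcreteCategory.bijective_of_isIso (((Scheme.Modules.pullback b).obj F).restrictAppIso ι _).hom)

/-- Finite locally free modules are quasi-coherent. -/
theorem isQCoh_of_isFinLocFreeOfRank (G : X.Modules) {r : ℕ} (h : FlatMod.IsFinLocFreeOfRank r G) :
    Coh.IsQCoh G := by
  choose U hxU e using h
  have hU : IsOpenCover U := eq_top_iff.2 fun x _ => Opens.mem_iSup.2 ⟨x, hxU x⟩
  have : ∀ x, (G.restrict (U x).ι).IsQuasicoherent := fun x =>
    @H10Coh.isQuasicoherent_of_iso _ _ _ (e x).some.symm (isQuasicoherent_freeMod _ r)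
  choose V hxV hV hle using fun x : X => show ∃ V : X.Opens, x ∈ V ∧ IsAffineOpen V ∧ V ≤ U x by
    obtain ⟨_, ⟨V, hV : IsAffineOpen V, rfl⟩, hxV, hle⟩ :=
      X.isBasis_affineOpens.exists_subset_of_mem_open (hxU x) (U x).isOpen
    exact ⟨V, hxV, hV, hle⟩
  refine H10Coh.isQuasicoherent_of_presentations G V
    (eq_top_iff.2 fun x _ => Opens.mem_iSup.2 ⟨x, hxV x⟩) fun x => ?_
  haveI := this x
  have hq : (G.restrict (V x).ι).IsQuasicoherent :=
    @H10Coh.isQuasicoherent_of_iso _ _ _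
      (((Scheme.Modules.restrictFunctorComp (X.homOfLE (hle x)) (U x).ι).symm.app G) ≪≫
        (Scheme.Modules.restrictFunctorCongr (X.homOfLE_ι (hle x))).app G)
      (Scheme.Modules.isQuasicoherent_restrictFunctor (X.homOfLE (hle x)) (G.restrict (U x).ι))
  haveI := hq
  haveI : IsAffine (V x : Scheme.{u}) := hV x
  have hq' : (G.restrict (hV x).fromSpec).IsQuasicoherent :=
    @H10Coh.isQuasicoherent_of_iso _ _ _
      (((Scheme.Modules.restrictFunctorComp (hV x).isoSpec.inv (V x).ι).symm.app G) ≪≫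
        (Scheme.Modules.restrictFunctorCongr (by
          rw [Iso.inv_comp_eq, (hV x).isoSpec_hom_fromSpec])).app G)
      (Scheme.Modules.isQuasicoherent_restrictFunctor (hV x).isoSpec.inv (G.restrict (V x).ι))
  exact @H10Coh.presentationAffine _ G _ (hV x) hq'

/-- The kernel of a surjection onto a locally free module with finitely presented sections. -/
theorem isFP_kernel {M G : X.Modules} (π : M ⟶ G) (hπ : Epi π) (hM : Coh.IsQCoh M) {r : ℕ}
    (hG : FlatMod.IsFinLocFreeOfRank r G)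
    (hMfp : ∀ x : X, ∃ O : X.Opens, x ∈ O ∧ ∀ V : X.Opens, IsAffineOpen V → V ≤ O →
      Module.FinitePresentation Γ(X, V) Γ(M, V)) : CohB1.IsFP (kernel π) := by
  classical
  have hGq : G.IsQuasicoherent := isQCoh_of_isFinLocFreeOfRank G hG
  haveI : M.IsQuasicoherent := hM
  haveI := hGq
  haveI : (kernel π).IsQuasicoherent := H10Coh.isQuasicoherent_kernel π
  have key : ∀ x : X, ∃ V : X.Opens, x ∈ V ∧ IsAffineOpen V ∧
      Module.FinitePresentation Γ(X, V) Γ(kernel π, V) := by
    intro x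
    obtain ⟨O, hxO, hO⟩ := hMfp x
    obtain ⟨U, hxU, ⟨e⟩⟩ := hG x
    obtain ⟨_, ⟨V, hV : IsAffineOpen V, rfl⟩, hxV, hle⟩ :=
      X.isBasis_affineOpens.exists_subset_of_mem_open (show x ∈ O ⊓ U from ⟨hxO, hxU⟩) (O ⊓ U).isOpen
    haveI : Module.FinitePresentation Γ(X, V) Γ(M, V) := hO V hV fun y hy => (hle hy).1
    have hfree2 : Module.Free Γ(X, V) Γ(G, V) ∧ Module.Finite Γ(X, V) Γ(G, V) := by
      have hpre : U.ι ''ᵁ (U.ι ⁻¹ᵁ V) = V := by
        rw [Scheme.Hom.image_preimage_eq_opensRange_inf, Scheme.Opens.opensRange_ι]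
        exact inf_eq_right.2 fun y hy => (hle hy).2
      rw [← hpre]
      let E := (G.restrictAppIso U.ι (U.ι ⁻¹ᵁ V)).hom.hom.comp (e.inv.app (U.ι ⁻¹ᵁ V)).hom
      have hE : Function.Bijective E :=
        (ConcreteCategory.bijective_of_isIso (G.restrictAppIso U.ι (U.ι ⁻¹ᵁ V)).hom).comp
          (ConcreteCategory.bijective_of_isIso (e.inv.app (U.ι ⁻¹ᵁ V)))
      have hEs : ∀ (a : Γ(↑U, U.ι ⁻¹ᵁ V)) (y : Γ(FlatMod.freeMod (↑U) r, U.ι ⁻¹ᵁ V)),
          E (a • y) = (U.ι.appIso (U.ι ⁻¹ᵁ V)).inv a • E y := fun a y => by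
        change (G.restrictAppIso U.ι _).hom (e.inv.app _ (a • y)) = _
        rw [Scheme.Modules.Hom.app_smul]
        rfl
      have hspan := span_of_semilinear (U.ι.appIso (U.ι ⁻¹ᵁ V)).inv.hom E hEs hE.2
        (gen_span (X := (↑U : Scheme.{u})) r (U.ι ⁻¹ᵁ V))
      have hb := ConcreteCategory.bijective_of_isIso (U.ι.appIso (U.ι ⁻¹ᵁ V)).inv
      have hind : LinearIndependent Γ(X, U.ι ''ᵁ (U.ι ⁻¹ᵁ V))
          (fun j => E (gen (↑U) r j (U.ι ⁻¹ᵁ V))) := by
        rw [Fintype.linearIndependent_iff]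
        intro c hc
        choose c' hc' using fun j => hb.2 (c j)
        have h0 : ∑ j, c' j • gen (↑U) r j (U.ι ⁻¹ᵁ V) = 0 := hE.1 (by
          rw [map_sum, map_zero, ← hc]
          exact Finset.sum_congr rfl fun j _ => by rw [hEs, hc'])
        intro j
        rw [← hc', congrFun (gen_independent r _ c' h0) j]
        exact map_zero (U.ι.appIso (U.ι ⁻¹ᵁ V)).inv.hom
      let b := Module.Basis.mk hind hspan.ge
      exact ⟨Module.Free.of_basis b, Module.Finite.of_basis b⟩
    haveI := hfree2.1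
    haveI := hfree2.2
    have hsur : Function.Surjective (appLin π V) := @H10Coh.surjective_app_of_epi _ _ _ π ‹_› ‹_› hπ _ hV
    obtain ⟨σ, hσ⟩ := Module.projective_lifting_property (appLin π V) LinearMap.id hsur
    let i := appLin (kernel.ι π) V
    have hi : Function.Injective i := H10Coh.injective_app_of_mono' (kernel.ι π) V
    have hrange : ∀ z, appLin π V z = 0 → ∃ y, i y = z := fun z hz =>
      H10Coh.exists_app_eq_of_exact
        (S := ShortComplex.mk (kernel.ι π) π (kernel.condition π))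
        { exact := ShortComplex.exact_of_f_is_kernel _ (kernelIsKernel π), epi_g := hπ } V z hz
    have hπi : ∀ y, appLin π V (i y) = 0 := fun y =>
      congr($(kernel.condition π).app V y)
    let q : Γ(M, V) →ₗ[Γ(X, V)] LinearMap.range i := LinearMap.codRestrict _
      (LinearMap.id - σ.comp (appLin π V)) fun z => LinearMap.mem_range.2 (hrange _ (by
        rw [LinearMap.sub_apply, map_sub, LinearMap.id_apply, LinearMap.comp_apply,
          ← LinearMap.comp_apply (appLin π V) σ, hσ, LinearMap.id_apply, sub_self]))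
    let p : Γ(M, V) →ₗ[Γ(X, V)] Γ(kernel π, V) := (LinearEquiv.ofInjective i hi).symm.toLinearMap.comp q
    have hp : ∀ y, p (i y) = y := fun y => by
      refine (LinearEquiv.symm_apply_eq _).2 (Subtype.ext ?_)
      change i y - σ (appLin π V (i y)) = i y
      rw [hπi, map_zero, sub_zero]
    have hker : LinearMap.ker p = LinearMap.range σ := by
      ext z
      rw [LinearMap.mem_ker]
      constructor
      · intro hz
        have h0 : q z = 0 := (LinearEquiv.ofInjective i hi).symm.map_eq_zero_iff.1 hz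
        exact ⟨appLin π V z, (sub_eq_zero.1 (congrArg Subtype.val h0)).symm⟩
      · rintro ⟨y, rfl⟩
        refine (LinearEquiv.ofInjective i hi).symm.map_eq_zero_iff.2 (Subtype.ext ?_)
        change σ y - σ (appLin π V (σ y)) = 0
        rw [← LinearMap.comp_apply (appLin π V) σ, hσ, LinearMap.id_apply, sub_self]
    exact ⟨V, hxV, hV, Module.finitePresentation_of_surjective p (fun y => ⟨i y, hp y⟩)
      (hker ▸ Submodule.fg_range σ)⟩
  choose V hxV hV hfp using key
  exact H29Omega.isFP_of_affineCover _ V (eq_top_iff.2 fun x _ => Opens.mem_iSup.2 ⟨x, hxV x⟩) hV hfp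

/-- The kernel vanishes where the centre is trivial. -/
theorem isZero_kernel_restrict {M G : X.Modules} (π : M ⟶ G) (E : X.IdealSheafData) (O : X.Opens)
    (hO : Disjoint (E.support : Set X) (O : Set X))
    (hker : ∀ (V : X.affineOpens) (m : M.presheaf.obj (op V.1)),
      π.app V.1 m = 0 → BlowUp.KilledByPowerNear E M V m) :
    IsZero ((kernel π).restrict O.ι) := by
  rw [IsZero.iff_id_eq_zero]
  refine Scheme.Modules.hom_ext _ _ fun W => ?_
  ext s
  change s = 0
  refine H11Tilde.eq_of_locally _ _ fun y hy => ?_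
  obtain ⟨_, ⟨V, hV : IsAffineOpen V, rfl⟩, hyV, hle⟩ :=
    X.isBasis_affineOpens.exists_subset_of_mem_open (show O.ι y ∈ O.ι ''ᵁ W from ⟨y, hy, rfl⟩)
      (O.ι ''ᵁ W).isOpen
  have hVW : O.ι ⁻¹ᵁ V ≤ W := fun z hz => by
    obtain ⟨z', hz', he⟩ := hle hz
    exact O.ι.isOpenEmbedding.injective he ▸ hz'
  refine ⟨O.ι ⁻¹ᵁ V, hVW, hyV, ?_⟩
  rw [map_zero]
  have hpre : O.ι ''ᵁ (O.ι ⁻¹ᵁ V) = V := by
    rw [Scheme.Hom.image_preimage_eq_opensRange_inf, Scheme.Opens.opensRange_ι]
    exact inf_eq_right.2 fun z hz => O.ι_image_le W (hle hz)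
  have hzero : ∀ (D : X.Opens), IsAffineOpen D → D ≤ O → ∀ k : Γ(kernel π, D), k = 0 := by
    intro D hD hDO k
    refine H10Coh.injective_app_of_mono' (kernel.ι π) D (Eq.trans ?_ (map_zero _).symm)
    obtain ⟨n, hn⟩ := hker ⟨D, hD⟩ ((kernel.ι π).app D k) (congr($(kernel.condition π).app D k))
    have htop : E.ideal ⟨D, hD⟩ = ⊤ := by
      by_contra hne
      obtain ⟨P, hP, hle'⟩ := Ideal.exists_le_maximal _ hne
      let q : PrimeSpectrum Γ(X, D) := ⟨P, hP.isPrime⟩
      have hq : hD.fromSpec q ∈ D := hD.range_fromSpec.le ⟨q, rfl⟩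
      refine Set.disjoint_left.1 hO ?_ (hDO hq)
      refine (Scheme.IdealSheafData.mem_support_iff_of_mem (U := ⟨D, hD⟩) hq).2 ?_
      rw [Scheme.mem_zeroLocus_iff]
      intro a ha hmem
      have : q ∈ hD.fromSpec ⁻¹ᵁ X.basicOpen a := hmem
      rw [hD.fromSpec_preimage_basicOpen] at this
      exact this (hle' ha)
    have h := hn 1 (by rw [Scheme.IdealSheafData.ideal_pow, Pi.pow_apply, htop, Ideal.top_pow]; trivial)
    rwa [one_smul] at h
  have haff : IsAffineOpen (O.ι ''ᵁ (O.ι ⁻¹ᵁ V)) := by rw [hpre]; exact hV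
  exact hzero _ haff (O.ι_image_le _) _

theorem blowup_fitting_admissible (F : X.Modules) (hF : CohB1.IsFP F) (U : X.Opens)
    (hU : CInt.IsSchematicallyDense U) (r : ℕ) (hfree : FlatMod.IsFinLocFreeOfRank r (F.restrict U.ι)) :
    BlowUp.IsAdmissibleFor U (Fitt.sheafIdeal F r) ∧
      ∀ (X' : Scheme.{u}) (b : X' ⟶ X), BlowUp.IsBlowUp b (Fitt.sheafIdeal F r) →
        ∀ (G : X'.Modules) (π : (Scheme.Modules.pullback b).obj F ⟶ G),
          BlowUp.IsStrictTransform b (Fitt.sheafIdeal F r) F G π →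
          FlatMod.IsFinLocFreeOfRank r G ∧ CohB1.IsFP (kernel π) ∧
            IsZero ((kernel π).restrict (b ⁻¹ᵁ U).ι) := by
  have hq := isQCoh_of_isFP F hF
  have hft := isFT_of_isFP F hF
  refine ⟨⟨fun V => ?_, disjoint_support F hq hft U hfree⟩, fun X' b hb G π hG => ?_⟩
  · rw [sheafIdeal_ideal F hq hft]; exact fg_ideal F hF r V
  have hc := sheafIdeal_comap b F hq hft r
  have hE : BlowUp.IsEffCartierIdeal (Fitt.sheafIdeal ((Scheme.Modules.pullback b).obj F) r) :=
    hc ▸ hb.1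
  have hloc : FlatMod.IsFinLocFreeOfRank r G := by
    refine isFinLocFreeOfRank_quotient _ (isQCoh_pullback b F hq) (isFT_pullback b F hq hft) hE G π
      hG.1 (fun V m => (hG.2 V m).trans (by rw [BlowUp.exceptional, hc])) fun j hj => ?_
    rw [← sheafIdeal_comap b F hq hft j, eq_bot_of_comap_schDense _ U hU
      (comap_sheafIdeal_eq_bot F hq hft U hfree hj), Scheme.IdealSheafData.comap_bot,
      Scheme.IdealSheafData.comap_bot]
  refine ⟨hloc, isFP_kernel π hG.1 (isQCoh_pullback b F hq) hloc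
    (exists_nhd_finitePresentation_pullback b F hF), ?_⟩
  refine isZero_kernel_restrict π ((Fitt.sheafIdeal F r).comap b) _ ?_ fun V m => (hG.2 V m).1
  rw [Scheme.IdealSheafData.support_comap]
  exact (disjoint_support F hq hft U hfree).preimage b

end Groth.Agent.H29Fitt
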