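import Groth.Agent.H29Fitt.FreeLocal

/-!
# Finite locally free of rank r iff the Fitting ideals jump from ⊥ to ⊤ at r
-/

set_option autoImplicit false

universe u

open CategoryTheory Limits AlgebraicGeometry TopologicalSpace Opposite

namespace Groth.Agent.H29Fitt

/-- A module spanned by `n` elements without relations. -/
theorem ideal_eq_bot_of_independent {A M : Type u} [CommRing A] [AddCommGroup M] [Module A M]
    [Module.Finite A M] {n : ℕ} (x : Fin n → M) (hx : Submodule.span A (Set.range x) = ⊤)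
    (hi : ∀ c : Fin n → A, ∑ j, c j • x j = 0 → c = 0) {k : ℕ} (hk : k < n) :
    Fitt.ideal A M k = ⊥ := by
  rw [ideal_eq x hx, eq_bot_iff]
  refine J_le fun z e hz => ?_
  haveI : Nonempty (Fin (n - k)) := ⟨⟨0, by omega⟩⟩
  rw [Matrix.det_eq_zero_of_column_eq_zero (Classical.arbitrary _) fun a =>
    congrFun (hi _ (hz _)) (e a)]
  exact Submodule.zero_mem _

/-- With `r` generators and `Fit_{r-1} = 0` there are no relations. -/
theorem eq_zero_of_ideal_eq_bot {A M : Type u} [CommRing A] [AddCommGroup M] [Module A M]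
    [Module.Finite A M] {r : ℕ} (x : Fin r → M) (hx : Submodule.span A (Set.range x) = ⊤)
    (h : ∀ k, k < r → Fitt.ideal A M k = ⊥) (c : Fin r → A) (hc : ∑ j, c j • x j = 0) : c = 0 := by
  funext i
  have hr : 0 < r := i.pos
  have hd := det_mem_J (x := x) (z := fun _ : Fin (r - (r - 1)) => c) (fun _ => hc) (fun _ => i)
  rw [← ideal_eq x hx, h (r - 1) (by omega), Ideal.mem_bot] at hd
  haveI : Unique (Fin (r - (r - 1))) :=
    { default := ⟨0, by omega⟩, uniq := fun a => Fin.ext (show (a : ℕ) = 0 by omega) }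
  rw [Matrix.det_unique] at hd
  exact hd

variable {X : Scheme.{u}}

/-- Fitting ideal sheaves on the affine opens inside a free chart. -/
theorem sheafIdeal_ideal_of_free (F : X.Modules) (hF : Coh.IsQCoh F) (hft : CohB1.IsFT F)
    {U : X.Opens} {r : ℕ} (e : F.restrict U.ι ≅ FlatMod.freeMod (↑U) r) (V : X.affineOpens)
    (hle : V.1 ≤ U) (k : ℕ) :
    (Fitt.sheafIdeal F k).ideal V = if r ≤ k then ⊤ else ⊥ := by
  obtain ⟨V, hV⟩ := V
  have hpre : U.ι ''ᵁ (U.ι ⁻¹ᵁ V) = V := by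
    rw [Scheme.Hom.image_preimage_eq_opensRange_inf, Scheme.Opens.opensRange_ι]
    exact inf_eq_right.2 hle
  suffices key : ∀ (W : X.Opens) (hW : IsAffineOpen W), U.ι ''ᵁ (U.ι ⁻¹ᵁ V) = W →
      (Fitt.sheafIdeal F k).ideal ⟨W, hW⟩ = if r ≤ k then ⊤ else ⊥ from key V hV hpre
  intro W hW hWeq
  subst hWeq
  haveI := finite_sections F hF hft ⟨_, hW⟩
  let E := (F.restrictAppIso U.ι (U.ι ⁻¹ᵁ V)).hom.hom.comp (e.inv.app (U.ι ⁻¹ᵁ V)).hom
  have hE : Function.Bijective E :=
    (ConcreteCategory.bijective_of_isIso (F.restrictAppIso U.ι (U.ι ⁻¹ᵁ V)).hom).comp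
      (ConcreteCategory.bijective_of_isIso (e.inv.app (U.ι ⁻¹ᵁ V)))
  have hEs : ∀ (a : Γ(↑U, U.ι ⁻¹ᵁ V)) (y : Γ(FlatMod.freeMod (↑U) r, U.ι ⁻¹ᵁ V)),
      E (a • y) = (U.ι.appIso (U.ι ⁻¹ᵁ V)).inv a • E y := fun a y => by
    change (F.restrictAppIso U.ι _).hom (e.inv.app _ (a • y)) = _
    rw [Scheme.Modules.Hom.app_smul]
    rfl
  have hspan := span_of_semilinear (U.ι.appIso (U.ι ⁻¹ᵁ V)).inv.hom E hEs hE.2
    (gen_span (X := (↑U : Scheme.{u})) r (U.ι ⁻¹ᵁ V))
  rw [sheafIdeal_ideal F hF hft]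
  split_ifs with hk
  · exact ideal_eq_top_of_span _ hspan hk
  · refine ideal_eq_bot_of_independent _ hspan (fun c hc => ?_) (Nat.lt_of_not_le hk)
    have hb := ConcreteCategory.bijective_of_isIso (U.ι.appIso (U.ι ⁻¹ᵁ V)).inv
    choose c' hc' using fun j => hb.2 (c j)
    have h0 : ∑ j, c' j • gen (↑U) r j (U.ι ⁻¹ᵁ V) = 0 := hE.1 (by
      rw [map_sum, map_zero, ← hc]
      exact Finset.sum_congr rfl fun j _ => by rw [hEs, hc'])
    funext j
    rw [← hc', congrFun (gen_independent r _ c' h0) j]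
    exact map_zero (U.ι.appIso (U.ι ⁻¹ᵁ V)).inv.hom

theorem isFinLocFreeOfRank_iff (F : X.Modules) (hF : Coh.IsQCoh F) (hft : CohB1.IsFT F) (r : ℕ) :
    FlatMod.IsFinLocFreeOfRank r F ↔
      (∀ k : ℕ, k < r → Fitt.sheafIdeal F k = ⊥) ∧ (∀ k : ℕ, r ≤ k → Fitt.sheafIdeal F k = ⊤) := by
  refine ⟨fun h => ?_, fun ⟨h0, h1⟩ x => ?_⟩
  · choose U hxU e using h
    have hV : ∀ x : X, ∃ V : X.affineOpens, x ∈ V.1 ∧ V.1 ≤ U x := fun x => by
      obtain ⟨_, ⟨V, hV : IsAffineOpen V, rfl⟩, hxV, hle : V ≤ U x⟩ :=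
        X.isBasis_affineOpens.exists_subset_of_mem_open (hxU x) (U x).isOpen
      exact ⟨⟨V, hV⟩, hxV, hle⟩
    choose V hxV hle using hV
    have hcov : ⨆ x, (V x).1 = ⊤ := eq_top_iff.2 fun x _ => Opens.mem_iSup.2 ⟨x, hxV x⟩
    refine ⟨fun k hk => Scheme.IdealSheafData.ext_of_iSup_eq_top V hcov fun x => ?_,
      fun k hk => Scheme.IdealSheafData.ext_of_iSup_eq_top V hcov fun x => ?_⟩
    · rw [sheafIdeal_ideal_of_free F hF hft (e x).some (V x) (hle x), if_neg (by omega)]
      rfl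
    · rw [sheafIdeal_ideal_of_free F hF hft (e x).some (V x) (hle x), if_pos hk]
      rfl
  · have hx : x ∉ (Fitt.sheafIdeal F r).support := by
      rw [h1 r le_rfl, Scheme.IdealSheafData.support_top]
      exact fun hh => hh
    obtain ⟨U, hU, f, m, hxf, hm⟩ := exists_generators_of_not_mem_support F hF hft x hx
    haveI := epi_basicHom F hF hU f m hm
    have hmono : Mono (basicHom F f m) := by
      refine H11Tilde.mono_of_injective _ fun W s hs y hy => ?_
      obtain ⟨g, V, hVW, hyV, hV, hg⟩ := exists_basic_nhd hU f W y hy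
      obtain ⟨c, hc⟩ := exists_eq_sum_gen (X := (↑(X.basicOpen f) : Scheme.{u})) r V
        ((FlatMod.freeMod (↑(X.basicOpen f)) r).presheaf.map (homOfLE hVW).op s)
      refine ⟨V, hVW, hyV, ?_⟩
      have hsum : ∑ j, c j • (basicHom F f m).app V (gen _ r j V) = 0 := by
        have h := congrArg ((basicHom F f m).app V) hc
        rw [H11Tilde.app_map_apply, hs, map_zero, map_sum] at h
        simp only [Scheme.Modules.Hom.app_smul] at h
        exact h
      have haff : IsAffineOpen ((X.basicOpen f).ι ''ᵁ V) := hV ▸ hU.basicOpen g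
      haveI := finite_sections F hF hft ⟨_, haff⟩
      let σ := ((X.basicOpen f).ι.appIso V).inv.hom
      let E := (F.restrictAppIso (X.basicOpen f).ι V).hom.hom
      have hsp := span_of_semilinear σ E (fun a n => rfl) (fun n => ⟨n, rfl⟩)
        (span_restrict_of_spansUpTo F hF hU f g m hm hV hg)
      have h0' : ∀ k, k < r → Fitt.ideal _ Γ(F, (X.basicOpen f).ι ''ᵁ V) k = ⊥ := fun k hk => by
        rw [← sheafIdeal_ideal F hF hft k ⟨_, haff⟩, h0 k hk]
        rfl
      have hc0 := eq_zero_of_ideal_eq_bot _ hsp h0' (fun j => σ (c j)) (by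
        have h' := congrArg E hsum
        rw [map_sum, map_zero] at h'
        exact h')
      rw [← hc]
      refine Finset.sum_eq_zero fun j _ => ?_
      rw [show c j = 0 from (ConcreteCategory.bijective_of_isIso ((X.basicOpen f).ι.appIso V).inv).1
        ((congrFun hc0 j).trans (map_zero σ).symm), zero_smul]
    haveI := isIso_of_mono_of_epi (basicHom F f m)
    exact ⟨X.basicOpen f, hxf, ⟨(asIso (basicHom F f m)).symm⟩⟩

end Groth.Agent.H29Fitt
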