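import Groth.Agent.H29Fitt.Rank
import Groth.Agent.H29Blow.QCohExt
import Groth.Agent.H10Coh.FinType2
import Groth.Prelude.Def_BlowUp2
import Groth.Prelude.Def_CohB1

/-!
# Fitting ideal sheaves of quasi-coherent modules of finite type
-/

set_option autoImplicit false

universe u

open CategoryTheory Limits AlgebraicGeometry TopologicalSpace Opposite TensorProduct

namespace Groth.Agent.H29Fitt

lemma ideal_congr {R : Type u} [CommRing R] {M M' : Type u} [AddCommGroup M] [Module R M]
    [Module.Finite R M] [AddCommGroup M'] [Module R M'] (e : M ≃ₗ[R] M') (k : ℕ) :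
    Fitt.ideal R M k = Fitt.ideal R M' k := by
  haveI : Module.Finite R M' := Module.Finite.equiv e
  exact le_antisymm (ideal_mono_of_surjective e.toLinearMap e.surjective k)
    (ideal_mono_of_surjective e.symm.toLinearMap e.symm.surjective k)

/-- Fitting ideals commute with localisation. -/
lemma ideal_of_isLocalizedModule {A A' : Type u} [CommRing A] [CommRing A'] [Algebra A A']
    (S : Submonoid A) [IsLocalization S A'] {M M' : Type u} [AddCommGroup M] [Module A M]
    [Module.Finite A M] [AddCommGroup M'] [Module A M'] [Module A' M'] [IsScalarTower A A' M']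
    (φ : M →ₗ[A] M') [IsLocalizedModule S φ] (k : ℕ) :
    Fitt.ideal A' M' k = (Fitt.ideal A M k).map (algebraMap A A') := by
  have hb : IsBaseChange A' φ := (isLocalizedModule_iff_isBaseChange S A' φ).mp inferInstance
  rw [← ideal_congr hb.equiv, ideal_baseChange]

variable {X : Scheme.{u}} (F : X.Modules) (hF : Coh.IsQCoh F)

/-- Restriction to a standard open as a linear map. -/
noncomputable def resLin {U : X.Opens} (t : Γ(X, U)) :
    letI := Module.compHom Γ(F, X.basicOpen t) (algebraMap Γ(X, U) Γ(X, X.basicOpen t))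
    Γ(F, U) →ₗ[Γ(X, U)] Γ(F, X.basicOpen t) :=
  letI := Module.compHom Γ(F, X.basicOpen t) (algebraMap Γ(X, U) Γ(X, X.basicOpen t))
  { toFun := F.presheaf.map (homOfLE (X.basicOpen_le t)).op
    map_add' := map_add _
    map_smul' := fun r m => Scheme.Modules.map_smul F _ r m }

include hF in
lemma isLocalizedModule_resLin {U : X.Opens} (hU : IsAffineOpen U) (t : Γ(X, U)) :
    letI := Module.compHom Γ(F, X.basicOpen t) (algebraMap Γ(X, U) Γ(X, X.basicOpen t))
    IsLocalizedModule (Submonoid.powers t) (resLin F t) := by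
  letI := Module.compHom Γ(F, X.basicOpen t) (algebraMap Γ(X, U) Γ(X, X.basicOpen t))
  haveI := hU.isLocalization_basicOpen t
  haveI : IsScalarTower Γ(X, U) Γ(X, X.basicOpen t) Γ(F, X.basicOpen t) :=
    ⟨fun a b m => by
      change (algebraMap Γ(X, U) Γ(X, X.basicOpen t) a * b) • m = _
      rw [mul_smul]; rfl⟩
  refine ⟨fun s => ?_, fun m => ?_, fun {a b} h => ?_⟩
  · have hu := IsLocalization.map_units Γ(X, X.basicOpen t) s
    rw [Module.End.isUnit_iff]
    exact ⟨fun a b hab => hu.smul_left_cancel.mp hab,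
      fun m => ⟨(↑hu.unit⁻¹ : Γ(X, X.basicOpen t)) • m, by
        change algebraMap Γ(X, U) Γ(X, X.basicOpen t) _ • (↑hu.unit⁻¹ : Γ(X, X.basicOpen t)) • m = m
        rw [smul_smul, hu.mul_val_inv, one_smul]⟩⟩
  · obtain ⟨n, s', hs'⟩ := H29Blow.exists_pow_smul_eq_res F hF hU t m
    exact ⟨(s', ⟨t ^ n, n, rfl⟩), hs'.symm⟩
  · obtain ⟨n, hn⟩ := H29Blow.exists_pow_smul_eq_zero F hF hU t (a - b)
      (by rw [map_sub, sub_eq_zero]; exact h)
    exact ⟨⟨t ^ n, n, rfl⟩, by rw [smul_sub, sub_eq_zero] at hn; exact hn⟩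

variable (hft : CohB1.IsFT F)

include hF hft in
lemma finite_sections (U : X.affineOpens) : Module.Finite Γ(X, U.1) Γ(F, U.1) :=
  haveI : F.IsQuasicoherent := hF
  H10Coh.finite_sections F hft U.2

include hF hft in
lemma map_ideal_basicOpen (r : ℕ) (U : X.affineOpens) (t : Γ(X, U.1)) :
    (Fitt.ideal Γ(X, U.1) Γ(F, U.1) r).map (X.presheaf.map (homOfLE <| X.basicOpen_le t).op).hom =
      Fitt.ideal Γ(X, X.basicOpen t) Γ(F, X.basicOpen t) r := by
  haveI := finite_sections F hF hft U
  letI := Module.compHom Γ(F, X.basicOpen t) (algebraMap Γ(X, U.1) Γ(X, X.basicOpen t))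
  haveI := U.2.isLocalization_basicOpen t
  haveI : IsScalarTower Γ(X, U.1) Γ(X, X.basicOpen t) Γ(F, X.basicOpen t) :=
    ⟨fun a b m => by
      change (algebraMap Γ(X, U.1) Γ(X, X.basicOpen t) a * b) • m = _
      rw [mul_smul]; rfl⟩
  haveI := isLocalizedModule_resLin F hF U.2 t
  exact (ideal_of_isLocalizedModule (Submonoid.powers t) (resLin F t) r).symm

/-- The Fitting ideals on affine opens as an ideal sheaf. -/
noncomputable def fittData (r : ℕ) : X.IdealSheafData :=
  { ideal := fun U => Fitt.ideal Γ(X, U.1) Γ(F, U.1) r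
    map_ideal_basicOpen := fun U t => map_ideal_basicOpen F hF hft r U t }

include hF hft in
theorem sheafIdeal_ideal (r : ℕ) (U : X.affineOpens) :
    (Fitt.sheafIdeal F r).ideal U = Fitt.ideal Γ(X, U.1) Γ(F, U.1) r :=
  congrArg (fun I : X.IdealSheafData => I.ideal U)
    (Scheme.IdealSheafData.ofIdeals_ideal (fittData F hF hft r))

include hF hft in
theorem mem_support_iff (r : ℕ) {U : X.Opens} (hU : IsAffineOpen U) (x : U) :
    x.1 ∈ (Fitt.sheafIdeal F r).support ↔
      Fitt.ideal Γ(X, U) Γ(F, U) r ≤ (hU.primeIdealOf x).asIdeal := by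
  rw [Scheme.IdealSheafData.mem_support_iff_of_mem (U := ⟨U, hU⟩) x.2, sheafIdeal_ideal F hF hft,
    Scheme.mem_zeroLocus_iff]
  refine ⟨fun h a ha => (H29Blow.mem_primeIdealOf_iff hU x a).mpr
    fun hu => h a ha ((X.mem_basicOpen a x.1 x.2).mpr hu), fun h a ha hmem => ?_⟩
  exact (H29Blow.mem_primeIdealOf_iff hU x a).mp (h ha) ((X.mem_basicOpen a x.1 x.2).mp hmem)

/-- The germ map as a linear map. -/
noncomputable def germLin {U : X.Opens} (x : U) :
    letI := TopCat.Presheaf.algebra_section_stalk X.presheaf x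
    letI := Module.compHom (F.presheaf.stalk x.1) (algebraMap Γ(X, U) (X.presheaf.stalk x.1))
    Γ(F, U) →ₗ[Γ(X, U)] F.presheaf.stalk x.1 :=
  letI := TopCat.Presheaf.algebra_section_stalk X.presheaf x
  letI := Module.compHom (F.presheaf.stalk x.1) (algebraMap Γ(X, U) (X.presheaf.stalk x.1))
  { toFun := F.presheaf.germ U x.1 x.2
    map_add' := map_add _
    map_smul' := fun r m => PresheafOfModules.germ_smul (R := X.presheaf)
      (show PresheafOfModules (X.presheaf ⋙ forget₂ CommRingCat RingCat) from F.val) x.1 U x.2 r m }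

include hF in
/-- The stalk of a quasi-coherent module is a localisation of the sections over an affine open. -/
theorem isLocalizedModule_germLin {U : X.Opens} (hU : IsAffineOpen U) (x : U) :
    letI := TopCat.Presheaf.algebra_section_stalk X.presheaf x
    letI := Module.compHom (F.presheaf.stalk x.1) (algebraMap Γ(X, U) (X.presheaf.stalk x.1))
    IsLocalizedModule (hU.primeIdealOf x).asIdeal.primeCompl (germLin F x) := by
  letI := TopCat.Presheaf.algebra_section_stalk X.presheaf x
  letI := Module.compHom (F.presheaf.stalk x.1) (algebraMap Γ(X, U) (X.presheaf.stalk x.1))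
  haveI := hU.isLocalization_stalk x
  refine ⟨fun s => ?_, fun m => ?_, fun {a b} h => ?_⟩
  · have hu := IsLocalization.map_units (X.presheaf.stalk x.1) s
    rw [Module.End.isUnit_iff]
    exact ⟨fun a b hab => hu.smul_left_cancel.mp hab,
      fun m => ⟨(↑hu.unit⁻¹ : X.presheaf.stalk x.1) • m, by
        change algebraMap Γ(X, U) (X.presheaf.stalk x.1) _ • (↑hu.unit⁻¹ : X.presheaf.stalk x.1) • m = m
        rw [smul_smul, hu.mul_val_inv, one_smul]⟩⟩
  · obtain ⟨t, u, ht⟩ := H29Blow.exists_germ_eq_smul F hF hU x m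
    obtain ⟨⟨a, c⟩, hac⟩ := IsLocalization.surj (hU.primeIdealOf x).asIdeal.primeCompl (u : X.presheaf.stalk x.1)
    have ha : a ∈ (hU.primeIdealOf x).asIdeal.primeCompl := fun hmem =>
      (H29Blow.mem_primeIdealOf_iff hU x a).mp hmem
        (show IsUnit (algebraMap Γ(X, U) (X.presheaf.stalk x.1) a) from
          hac ▸ u.isUnit.mul (IsLocalization.map_units _ c))
    refine ⟨((c : Γ(X, U)) • t, ⟨a, ha⟩), ?_⟩
    rw [map_smul]
    change algebraMap Γ(X, U) (X.presheaf.stalk x.1) a • m =
      algebraMap Γ(X, U) (X.presheaf.stalk x.1) (c : Γ(X, U)) • F.presheaf.germ U x.1 x.2 t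
    rw [ht, smul_smul, ← hac, mul_comm]
  · obtain ⟨c, hc, hcs⟩ := H29Blow.exists_smul_eq_zero_of_germ F hF hU x (a - b)
      (by rw [map_sub, sub_eq_zero]; exact h)
    exact ⟨⟨c, hc⟩, by rw [smul_sub, sub_eq_zero] at hcs; exact hcs⟩

end Groth.Agent.H29Fitt
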