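import Groth.Agent.H29Fitt.Sheaf
import Groth.Prelude.Def_PicLoc
import Groth.Agent.H10Coh.QCohLocal

/-!
# Inverse images of quasi-coherent modules (of finite type)
-/

set_option autoImplicit false

universe u

open CategoryTheory Limits AlgebraicGeometry TopologicalSpace Opposite

namespace Groth.Agent.H29Fitt

variable {T S : Scheme.{u}} (f : T ⟶ S)

/-- `(f^* M)|_{f⁻¹U} ≅ g^* (M|_U)`. -/
noncomputable def pullbackRestrictIso (M : S.Modules) (U : S.Opens) :
    (Scheme.Modules.pullback (f.resLE U (f ⁻¹ᵁ U) le_rfl)).obj (M.restrict U.ι) ≅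
      ((Scheme.Modules.pullback f).obj M).restrict (f ⁻¹ᵁ U).ι :=
  (Scheme.Modules.pullback (f.resLE U (f ⁻¹ᵁ U) le_rfl)).mapIso
      ((Scheme.Modules.restrictFunctorIsoPullback U.ι).app M) ≪≫
    (Scheme.Modules.pullbackComp (f.resLE U (f ⁻¹ᵁ U) le_rfl) U.ι).app M ≪≫
    (Scheme.Modules.pullbackCongr (Scheme.Hom.resLE_comp_ι f le_rfl)).app M ≪≫
    ((Scheme.Modules.pullbackComp (f ⁻¹ᵁ U).ι f).app M).symm ≪≫
    ((Scheme.Modules.restrictFunctorIsoPullback (f ⁻¹ᵁ U).ι).app _).symm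

instance preservesColimits_pullback {X Y : Scheme.{u}} (g : X ⟶ Y) :
    PreservesColimitsOfSize.{u, u} (Scheme.Modules.pullback g) :=
  (Scheme.Modules.pullbackPushforwardAdjunction g).leftAdjoint_preservesColimits

/-- Inverse image of a presentation. -/
noncomputable def presentationPullback {X Y : Scheme.{u}} (g : X ⟶ Y) {M : Y.Modules}
    (P : M.Presentation) : ((Scheme.Modules.pullback g).obj M).Presentation :=
  @SheafOfModules.Presentation.map _ _ _ _ _ _ _ _ _ _ _ _ _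
    P (Scheme.Modules.pullback g) (preservesColimits_pullback g)
    (PicLoc.pullbackStructureIso g).symm

theorem isQCoh_pullback (M : S.Modules) (hM : Coh.IsQCoh M) :
    Coh.IsQCoh ((Scheme.Modules.pullback f).obj M) := by
  haveI : M.IsQuasicoherent := hM
  obtain ⟨ι, U, P, hU, -⟩ := M.exists_isOpenCover_presentation
  refine H10Coh.isQuasicoherent_of_presentations _ (fun i => f ⁻¹ᵁ U i) ?_ fun i =>
    H10Coh.presOfIso (pullbackRestrictIso f M (U i)) (presentationPullback _ (P i))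
  rw [IsOpenCover, eq_top_iff]
  intro x _
  obtain ⟨i, hi⟩ := Opens.mem_iSup.1 (hU.ge (Opens.mem_top (f x)))
  exact Opens.mem_iSup.2 ⟨i, hi⟩

theorem isFT_pullback (M : S.Modules) (hM : Coh.IsQCoh M) (hft : CohB1.IsFT M) :
    CohB1.IsFT ((Scheme.Modules.pullback f).obj M) := by
  have hq := isQCoh_pullback f M hM
  haveI : ((Scheme.Modules.pullback f).obj M).IsQuasicoherent := hq
  have key : ∀ x : T, ∃ V : T.Opens, x ∈ V ∧ IsAffineOpen V ∧
      Module.Finite Γ(T, V) Γ((Scheme.Modules.pullback f).obj M, V) := by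
    intro x
    obtain ⟨U, hU, G, hG⟩ := H10Coh.exists_generators_nhd M hft (f x)
    obtain ⟨_, ⟨V, hV : IsAffineOpen V, rfl⟩, hxV, hle : V ≤ f ⁻¹ᵁ U⟩ :=
      T.isBasis_affineOpens.exists_subset_of_mem_open (show x ∈ f ⁻¹ᵁ U from hU) (f ⁻¹ᵁ U).isOpen
    let g := f.resLE U (f ⁻¹ᵁ U) le_rfl
    let G₁ := @SheafOfModules.GeneratingSections.map _ _ _ _ _ _ _ _ _ _ _ _ _
      G (Scheme.Modules.pullback g) (preservesColimits_pullback g)
      (PicLoc.pullbackStructureIso g).symm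
    let e := pullbackRestrictIso f M U
    let G₂ := @SheafOfModules.GeneratingSections.ofEpi.{u} _ _ _ _ _ _ _ _ G₁ e.hom
      (IsIso.epi_of_iso e.hom)
    haveI : Finite G₂.I := hG
    have hq' := Scheme.Modules.isQuasicoherent_restrictFunctor (f ⁻¹ᵁ U).ι
      ((Scheme.Modules.pullback f).obj M)
    have hpre : (f ⁻¹ᵁ U).ι ''ᵁ ((f ⁻¹ᵁ U).ι ⁻¹ᵁ V) = V := by
      rw [Scheme.Hom.image_preimage_eq_opensRange_inf, Scheme.Opens.opensRange_ι]
      exact inf_eq_right.2 hle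
    have haff : IsAffineOpen ((f ⁻¹ᵁ U).ι ⁻¹ᵁ V) := by
      rw [← Scheme.Hom.isAffineOpen_iff_of_isOpenImmersion (f ⁻¹ᵁ U).ι, hpre]
      exact hV
    exact ⟨V, hxV, hV, H10Coh.finite_of_eq _ hpre ((H10Coh.finite_restrict_iff (f ⁻¹ᵁ U).ι _ _).1
      (@H10Coh.finite_sections_of_generators _ _ hq' G₂ ‹_› _ haff))⟩
  choose V hx hV hfin using key
  exact (H10Coh.isFT_isFP_of_affineCover _ V
    (eq_top_iff.2 fun x _ => Opens.mem_iSup.2 ⟨x, hx x⟩) hV hfin).1

end Groth.Agent.H29Fitt
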