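import Groth.Agent.H29Fitt.PullbackQCoh
import Groth.Agent.H06Mod.StalkPullback
import Groth.Agent.H29Blow.Basic

/-!
# Fitting ideal sheaves commute with inverse image
-/

set_option autoImplicit false

universe u

open CategoryTheory Limits AlgebraicGeometry TopologicalSpace Opposite TensorProduct

namespace Groth.Agent.H29Fitt

variable {T S : Scheme.{u}}

/-- The Fitting ideal of the stalk is generated by that of the sections. -/
theorem map_ideal_germ (F : S.Modules) (hF : Coh.IsQCoh F) (hft : CohB1.IsFT F) {U : S.Opens}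
    (hU : IsAffineOpen U) (x : U) (k : ℕ) :
    (Fitt.ideal Γ(S, U) Γ(F, U) k).map (S.presheaf.germ U x.1 x.2).hom =
      Fitt.ideal (S.presheaf.stalk x.1) (F.presheaf.stalk x.1) k := by
  letI := TopCat.Presheaf.algebra_section_stalk S.presheaf x
  letI := Module.compHom (F.presheaf.stalk x.1) (algebraMap Γ(S, U) (S.presheaf.stalk x.1))
  haveI : IsScalarTower Γ(S, U) (S.presheaf.stalk x.1) (F.presheaf.stalk x.1) :=
    ⟨fun a b m => by
      change (algebraMap Γ(S, U) (S.presheaf.stalk x.1) a * b) • m = _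
      rw [mul_smul]; rfl⟩
  haveI := hU.isLocalization_stalk x
  haveI := finite_sections F hF hft ⟨U, hU⟩
  haveI := isLocalizedModule_germLin F hF hU x
  exact (ideal_of_isLocalizedModule (hU.primeIdealOf x).asIdeal.primeCompl (germLin F x) k).symm

/-- The Fitting ideal of the stalk of an inverse image. -/
theorem ideal_stalk_pullback (f : T ⟶ S) (F : S.Modules) (hft : CohB1.IsFT F) (x : T) (k : ℕ) :
    Fitt.ideal (T.presheaf.stalk x) (((Scheme.Modules.pullback f).obj F).presheaf.stalk x) k =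
      (Fitt.ideal (S.presheaf.stalk (f.base x)) (F.presheaf.stalk (f.base x)) k).map
        (f.stalkMap x).hom := by
  letI := H06Mod.stalkAlgebra f x
  haveI := H06Mod.finite_stalk F hft (f.base x)
  rw [← ideal_congr (LinearEquiv.ofBijective _ (H06Mod.pullStalkLin_bijective f F x)) k,
    ideal_baseChange]
  rfl

/-- Ideals of sections over an affine open are determined by the stalks. -/
theorem ideal_le_of_germ {V : T.Opens} (hV : IsAffineOpen V) {I J : Ideal Γ(T, V)}
    (h : ∀ x : V, I.map (T.presheaf.germ V x.1 x.2).hom ≤ J.map (T.presheaf.germ V x.1 x.2).hom) :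
    I ≤ J := by
  intro a ha
  by_contra hne
  obtain ⟨P, hP, hle⟩ := Ideal.exists_le_maximal (Submodule.comap (LinearMap.toSpanSingleton Γ(T, V) _ a) J)
    (fun htop => hne (by simpa using (htop.ge (Submodule.mem_top (x := (1 : Γ(T, V)))))))
  let y : PrimeSpectrum Γ(T, V) := ⟨P, hP.isPrime⟩
  have hy : hV.fromSpec y ∈ V := hV.range_fromSpec.le ⟨y, rfl⟩
  have hpy : hV.primeIdealOf ⟨hV.fromSpec y, hy⟩ = y := by
    apply hV.fromSpec.isOpenEmbedding.injective
    exact hV.fromSpec_primeIdealOf ⟨_, hy⟩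
  letI := TopCat.Presheaf.algebra_section_stalk T.presheaf (⟨hV.fromSpec y, hy⟩ : V)
  haveI := hV.isLocalization_stalk ⟨hV.fromSpec y, hy⟩
  have hmem := h ⟨hV.fromSpec y, hy⟩ (Ideal.mem_map_of_mem _ ha)
  obtain ⟨c, hc, hca⟩ := (IsLocalization.algebraMap_mem_map_algebraMap_iff
    (hV.primeIdealOf ⟨hV.fromSpec y, hy⟩).asIdeal.primeCompl _ J a).1 hmem
  rw [hpy] at hc
  exact hc (hle (by simpa using hca))

theorem sheafIdeal_comap (f : T ⟶ S) (F : S.Modules) (hF : Coh.IsQCoh F) (hft : CohB1.IsFT F)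
    (k : ℕ) :
    (Fitt.sheafIdeal F k).comap f = Fitt.sheafIdeal ((Scheme.Modules.pullback f).obj F) k := by
  have hq := isQCoh_pullback f F hF
  have hftG := isFT_pullback f F hF hft
  have hU' : ∀ x : T, ∃ U : S.Opens, IsAffineOpen U ∧ f x ∈ U := fun x => by
    obtain ⟨_, ⟨U, hU : IsAffineOpen U, rfl⟩, hxU, -⟩ :=
      S.isBasis_affineOpens.exists_subset_of_mem_open (Set.mem_univ (f x)) isOpen_univ
    exact ⟨U, hU, hxU⟩
  choose U hU hxU using hU'
  have hV' : ∀ x : T, ∃ V : T.Opens, IsAffineOpen V ∧ x ∈ V ∧ V ≤ f ⁻¹ᵁ U x := fun x => by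
    obtain ⟨_, ⟨V, hV : IsAffineOpen V, rfl⟩, hxV, hle⟩ :=
      T.isBasis_affineOpens.exists_subset_of_mem_open (show x ∈ f ⁻¹ᵁ U x from hxU x)
        (f ⁻¹ᵁ U x).isOpen
    exact ⟨V, hV, hxV, hle⟩
  choose V hV hxV hle using hV'
  refine Scheme.IdealSheafData.ext_of_iSup_eq_top (fun x => ⟨V x, hV x⟩)
    (eq_top_iff.2 fun x _ => Opens.mem_iSup.2 ⟨x, hxV x⟩) fun i => ?_
  rw [H29Blow.ideal_comap _ f ⟨U i, hU i⟩ ⟨V i, hV i⟩ (hle i), sheafIdeal_ideal F hF hft,
    sheafIdeal_ideal _ hq hftG]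
  have key : ∀ x : V i, ((Fitt.ideal Γ(S, U i) Γ(F, U i) k).map (f.appLE (U i) (V i) (hle i)).hom).map
      (T.presheaf.germ (V i) x.1 x.2).hom =
      (Fitt.ideal Γ(T, V i) Γ((Scheme.Modules.pullback f).obj F, V i) k).map
        (T.presheaf.germ (V i) x.1 x.2).hom := by
    intro x
    rw [map_ideal_germ _ hq hftG (hV i) x, ideal_stalk_pullback f F hft,
      ← map_ideal_germ F hF hft (hU i) ⟨f.base x.1, hle i x.2⟩, Ideal.map_map, Ideal.map_map,
      ← CommRingCat.hom_comp, ← CommRingCat.hom_comp, Scheme.Hom.germ_stalkMap]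
    congr 2
    rw [Scheme.Hom.appLE, Category.assoc, TopCat.Presheaf.germ_res]
  exact le_antisymm (ideal_le_of_germ (hV i) fun x => (key x).le)
    (ideal_le_of_germ (hV i) fun x => (key x).ge)

end Groth.Agent.H29Fitt
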