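import Groth.Agent.H29Fitt.Sheaf
import Groth.Agent.H11Tilde.ModLoc
import Groth.Prelude.Def_FlatMod2

/-!
# Free modules of finite rank and local (minimal) generators; Fitting ideals
-/

set_option autoImplicit false

universe u

open CategoryTheory Limits AlgebraicGeometry TopologicalSpace Opposite

namespace Groth.Agent.H29Fitt

variable {X : Scheme.{u}}

/-- The map `O_X → N` given by a global section. -/
noncomputable def homSec (N : X.Modules) (g : Γ(N, ⊤)) : Coh.structureModule X ⟶ N :=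
  N.unitHomEquiv.symm (PresheafOfModules.sectionsMk
    (fun W => N.presheaf.map (homOfLE (le_top : W.unop ≤ ⊤)).op g)
    (fun W W' i => by
      change N.presheaf.map i (N.presheaf.map _ g) = _
      refine (ConcreteCategory.comp_apply _ _ g).symm.trans ?_
      rw [← Functor.map_comp]
      rfl))

theorem homSec_app (N : X.Modules) (g : Γ(N, ⊤)) (V : X.Opens) (r : Γ(Coh.structureModule X, V)) :
    (homSec N g).app V r =
      (show Γ(X, V) from r) • N.presheaf.map (homOfLE (le_top : V ≤ ⊤)).op g := rfl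

/-- The `j`-th basis section of a free module. -/
noncomputable def gen (X : Scheme.{u}) (n : ℕ) (j : Fin n) (W : X.Opens) :
    Γ(FlatMod.freeMod X n, W) :=
  (Sigma.ι (fun _ : Fin n => Coh.structureModule X) j).app W (H10Coh.oneSec W)

theorem res_gen (n : ℕ) (j : Fin n) {V W : X.Opens} (h : V ≤ W) :
    (FlatMod.freeMod X n).presheaf.map (homOfLE h).op (gen X n j W) = gen X n j V := by
  rw [gen, ← H11Tilde.app_map_apply]
  exact congrArg _ (map_one (X.presheaf.map (homOfLE h).op).hom)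

/-- The map out of a free module given by global sections. -/
noncomputable def freeHom {n : ℕ} (N : X.Modules) (s : Fin n → Γ(N, ⊤)) :
    FlatMod.freeMod X n ⟶ N :=
  Sigma.desc fun j => homSec N (s j)

theorem freeHom_gen {n : ℕ} (N : X.Modules) (s : Fin n → Γ(N, ⊤)) (j : Fin n) (W : X.Opens) :
    (freeHom N s).app W (gen X n j W) = N.presheaf.map (homOfLE (le_top : W ≤ ⊤)).op (s j) := by
  rw [gen, ← ConcreteCategory.comp_apply, ← Scheme.Modules.Hom.comp_app, freeHom, Sigma.ι_desc,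
    homSec_app]
  exact one_smul _ _

theorem exists_coord (n : ℕ) : ∃ p : Fin n → (FlatMod.freeMod X n ⟶ Coh.structureModule X),
    (∀ i j, Sigma.ι (fun _ : Fin n => Coh.structureModule X) j ≫ p i = if j = i then 𝟙 _ else 0) ∧
    ∑ i, p i ≫ Sigma.ι (fun _ : Fin n => Coh.structureModule X) i = 𝟙 _ := by
  classical
  refine ⟨fun i => Sigma.desc fun j => if j = i then 𝟙 _ else 0, fun i j => Sigma.ι_desc _ _, ?_⟩
  refine Sigma.hom_ext _ _ fun j => ?_
  rw [Category.comp_id, Preadditive.comp_sum, Finset.sum_eq_single j]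
  · rw [← Category.assoc, Sigma.ι_desc, if_pos rfl]
    exact Category.id_comp _
  · intro i _ hi
    rw [← Category.assoc, Sigma.ι_desc, if_neg hi.symm, zero_comp]
  · simp

theorem gen_span (n : ℕ) (W : X.Opens) :
    Submodule.span Γ(X, W) (Set.range fun j => gen X n j W) = ⊤ := by
  obtain ⟨p, -, hid⟩ := exists_coord (X := X) n
  refine Submodule.eq_top_iff'.2 fun z => ?_
  have happ : z = ∑ i, (p i ≫ Sigma.ι (fun _ : Fin n => Coh.structureModule X) i).app W z :=
    (congrArg (fun φ : FlatMod.freeMod X n ⟶ FlatMod.freeMod X n => φ.app W z) hid).symm.trans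
      (H10Coh.app_sum_apply _ W z)
  rw [happ]
  refine Submodule.sum_mem _ fun i _ => ?_
  rw [Scheme.Modules.Hom.comp_app, ConcreteCategory.comp_apply, H10Coh.unit_app_eq_smul]
  exact Submodule.smul_mem _ _ (Submodule.subset_span ⟨i, rfl⟩)

theorem gen_independent (n : ℕ) (W : X.Opens) (c : Fin n → Γ(X, W))
    (h : ∑ j, c j • gen X n j W = 0) : c = 0 := by
  classical
  obtain ⟨p, hp, -⟩ := exists_coord (X := X) n
  funext i
  have h' := congrArg ((p i).app W) h
  have hpe : ∀ j, (p i).app W (gen X n j W) = if j = i then H10Coh.oneSec W else 0 := by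
    intro j
    rw [gen, ← ConcreteCategory.comp_apply, ← Scheme.Modules.Hom.comp_app, hp]
    split_ifs <;> rfl
  simp only [map_sum, Scheme.Modules.Hom.app_smul, hpe, smul_ite, smul_zero, Finset.sum_ite_eq',
    Finset.mem_univ, if_true, map_zero] at h'
  exact (mul_one (c i)).symm.trans h'

theorem exists_eq_sum_gen (n : ℕ) (W : X.Opens) (z : Γ(FlatMod.freeMod X n, W)) :
    ∃ c : Fin n → Γ(X, W), ∑ j, c j • gen X n j W = z :=
  (Submodule.mem_span_range_iff_exists_fun _).1 ((gen_span n W).ge Submodule.mem_top)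

theorem isQuasicoherent_freeMod (X : Scheme.{u}) (n : ℕ) :
    (FlatMod.freeMod X n).IsQuasicoherent := by
  have h := @H10Coh.isQuasicoherent_biproduct _ _ _ (fun _ : Fin n => Coh.structureModule X)
    fun _ => H10Coh.isQuasicoherent_unit
  exact @H10Coh.isQuasicoherent_of_iso _ _ _
    (biproduct.isoCoproduct fun _ : Fin n => Coh.structureModule X) h

/-- Restricting sections of a quasi-coherent module: spanning up to powers of `f` spans on opens
where `f` is invertible. -/
theorem span_basicOpen_of_spansUpTo (F : X.Modules) (hF : Coh.IsQCoh F) {U : X.Opens}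
    (hU : IsAffineOpen U) {n : ℕ} {f g : Γ(X, U)} {m : Fin n → Γ(F, U)}
    (hm : SpansUpTo (Submonoid.powers f) m) (hg : X.basicOpen g ≤ X.basicOpen f) :
    Submodule.span Γ(X, X.basicOpen g)
      (Set.range fun j => F.presheaf.map (homOfLE (X.basicOpen_le g)).op (m j)) = ⊤ := by
  refine Submodule.eq_top_iff'.2 fun t => ?_
  obtain ⟨k, y, hy⟩ := H29Blow.exists_pow_smul_eq_res F hF hU g t
  obtain ⟨_, ⟨N, rfl⟩, hN⟩ := hm y
  let res := F.presheaf.map (homOfLE (X.basicOpen_le g)).op
  let rres := (X.presheaf.map (homOfLE (X.basicOpen_le g)).op).hom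
  have hfu : IsUnit (rres f) := by
    have h := (RingedSpace.isUnit_res_basicOpen X.toRingedSpace f).map
      (X.presheaf.map (homOfLE hg).op).hom
    change IsUnit ((X.presheaf.map (homOfLE (X.basicOpen_le g)).op).hom f)
    have e : (X.presheaf.map (homOfLE (X.basicOpen_le g)).op) =
        X.presheaf.map (homOfLE (X.basicOpen_le f)).op ≫ X.presheaf.map (homOfLE hg).op := by
      rw [← Functor.map_comp]; rfl
    rw [e]
    exact h
  have hgu : IsUnit (rres g) := RingedSpace.isUnit_res_basicOpen X.toRingedSpace g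
  obtain ⟨c, hc⟩ := (Submodule.mem_span_range_iff_exists_fun _).1 hN
  have hmem : rres f ^ N • rres g ^ k • t ∈ Submodule.span Γ(X, X.basicOpen g)
      (Set.range fun j => res (m j)) := by
    have hy' : res y = rres g ^ k • t := hy.trans (congrArg (· • t) (map_pow rres g k))
    rw [← hy', ← map_pow rres f N,
      show rres (f ^ N) • res y = res (f ^ N • y) from (Scheme.Modules.map_smul F _ _ y).symm,
      show f ^ N • y = ∑ j, c j • m j from hc.symm, map_sum]
    refine Submodule.sum_mem _ fun j _ => ?_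
    rw [show res (c j • m j) = rres (c j) • res (m j) from Scheme.Modules.map_smul F _ _ _]
    exact Submodule.smul_mem _ _ (Submodule.subset_span ⟨j, rfl⟩)
  exact (Submodule.smul_mem_iff_of_isUnit _ (hgu.pow k)).1
    ((Submodule.smul_mem_iff_of_isUnit _ (hfu.pow N)).1 hmem)

/-- A semilinear surjection preserves spanning families. -/
theorem span_of_semilinear {A B M N : Type*} [CommRing A] [CommRing B] [AddCommGroup M]
    [AddCommGroup N] [Module A M] [Module B N] (σ : A →+* B) (e : M →+ N)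
    (he : ∀ (a : A) (m : M), e (a • m) = σ a • e m) (hs : Function.Surjective e) {n : ℕ}
    {x : Fin n → M} (hx : Submodule.span A (Set.range x) = ⊤) :
    Submodule.span B (Set.range fun j => e (x j)) = ⊤ := by
  refine Submodule.eq_top_iff'.2 fun y => ?_
  obtain ⟨m, rfl⟩ := hs y
  obtain ⟨c, rfl⟩ := (Submodule.mem_span_range_iff_exists_fun _).1 (hx.ge (Submodule.mem_top (x := m)))
  rw [map_sum]
  refine Submodule.sum_mem _ fun j _ => ?_
  rw [he]
  exact Submodule.smul_mem _ _ (Submodule.subset_span ⟨j, rfl⟩)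

/-- A quotient of a free module of rank `r` has `Fit_r = ⊤`. -/
theorem not_mem_support_of_epi (F : X.Modules) (hF : Coh.IsQCoh F) (hft : CohB1.IsFT F)
    {U : X.Opens} {r : ℕ} (π : FlatMod.freeMod (↑U) r ⟶ F.restrict U.ι) (hπ : Epi π) (s : X)
    (hs : s ∈ U) : s ∉ (Fitt.sheafIdeal F r).support := by
  obtain ⟨_, ⟨V, hV : IsAffineOpen V, rfl⟩, hsV, hle : V ≤ U⟩ :=
    X.isBasis_affineOpens.exists_subset_of_mem_open hs U.isOpen
  have hpre : U.ι ''ᵁ (U.ι ⁻¹ᵁ V) = V := by
    rw [Scheme.Hom.image_preimage_eq_opensRange_inf, Scheme.Opens.opensRange_ι]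
    exact inf_eq_right.2 hle
  have haff : IsAffineOpen (U.ι ⁻¹ᵁ V) := by
    rw [← Scheme.Hom.isAffineOpen_iff_of_isOpenImmersion U.ι, hpre]
    exact hV
  haveI : F.IsQuasicoherent := hF
  haveI := Scheme.Modules.isQuasicoherent_restrictFunctor U.ι F
  have hsur : Function.Surjective (π.app (U.ι ⁻¹ᵁ V)) :=
    @H10Coh.surjective_app_of_epi _ _ _ π (isQuasicoherent_freeMod _ r) ‹_› hπ _ haff
  have h1 : Submodule.span Γ(↑U, U.ι ⁻¹ᵁ V)
      (Set.range fun j => π.app (U.ι ⁻¹ᵁ V) (gen (↑U) r j _)) = ⊤ :=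
    span_of_semilinear (RingHom.id _) (π.app (U.ι ⁻¹ᵁ V)).hom
      (fun a m => π.app_smul a m) hsur (gen_span r _)
  have h2 := span_of_semilinear (U.ι.appIso _).inv.hom
    (F.restrictAppIso U.ι _).hom.hom (fun a m => rfl) (fun n => ⟨n, rfl⟩) h1
  haveI := finite_sections F hF hft ⟨U.ι ''ᵁ (U.ι ⁻¹ᵁ V), hpre.symm ▸ hV⟩
  intro hmem
  have hs' : s ∈ U.ι ''ᵁ (U.ι ⁻¹ᵁ V) := hpre.symm ▸ hsV
  rw [mem_support_iff F hF hft r (hpre.symm ▸ hV) ⟨s, hs'⟩,
    ideal_eq_top_of_span _ h2 le_rfl] at hmem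
  exact (IsAffineOpen.primeIdealOf _ _).isPrime.ne_top (eq_top_iff.mpr hmem)

/-- Outside the support of `Fit_r` there are `r` local generators. -/
theorem exists_generators_of_not_mem_support (F : X.Modules) (hF : Coh.IsQCoh F)
    (hft : CohB1.IsFT F) {r : ℕ} (s : X) (h : s ∉ (Fitt.sheafIdeal F r).support) :
    ∃ (U : X.Opens) (_ : IsAffineOpen U) (f : Γ(X, U)) (m : Fin r → Γ(F, U)),
      s ∈ X.basicOpen f ∧ SpansUpTo (Submonoid.powers f) m := by
  obtain ⟨_, ⟨U, hU : IsAffineOpen U, rfl⟩, hsU, -⟩ :=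
    X.isBasis_affineOpens.exists_subset_of_mem_open (Set.mem_univ s) isOpen_univ
  haveI := finite_sections F hF hft ⟨U, hU⟩
  rw [mem_support_iff F hF hft r hU ⟨s, hsU⟩] at h
  obtain ⟨f, hf, m, hm⟩ := exists_spansUpTo_powers h
  refine ⟨U, hU, f, m, ?_, hm⟩
  rw [X.mem_basicOpen f s hsU]
  by_contra hu
  exact hf ((H29Blow.mem_primeIdealOf_iff hU ⟨s, hsU⟩ f).mpr hu)

/-- The map `O^r → F` on `D(f)` given by `r` sections. -/
noncomputable def basicHom (F : X.Modules) {U : X.Opens} (f : Γ(X, U)) {r : ℕ}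
    (m : Fin r → Γ(F, U)) :
    FlatMod.freeMod (↑(X.basicOpen f)) r ⟶ F.restrict (X.basicOpen f).ι :=
  freeHom _ fun j => (F.restrictAppIso (X.basicOpen f).ι ⊤).inv
    (F.presheaf.map (homOfLE (((X.basicOpen f).ι_image_le ⊤).trans (X.basicOpen_le f))).op (m j))

theorem basicHom_gen (F : X.Modules) {U : X.Opens} (f : Γ(X, U)) {r : ℕ} (m : Fin r → Γ(F, U))
    (j : Fin r) (W : (X.basicOpen f).toScheme.Opens) :
    (basicHom F f m).app W (gen _ r j W) = (F.restrictAppIso (X.basicOpen f).ι W).inv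
      (F.presheaf.map (homOfLE (((X.basicOpen f).ι_image_le W).trans (X.basicOpen_le f))).op
        (m j)) := by
  rw [basicHom, freeHom_gen]
  refine congrArg (F.restrictAppIso (X.basicOpen f).ι W).inv ?_
  refine (H10Coh.mres_mres F (((X.basicOpen f).ι_image_le ⊤).trans (X.basicOpen_le f))
    (Scheme.Hom.image_mono (X.basicOpen f).ι le_top) (m j)).trans ?_
  rfl

/-- Inside `D(f)`, neighbourhoods contain standard opens of `U`. -/
theorem exists_basic_nhd {U : X.Opens} (hU : IsAffineOpen U) (f : Γ(X, U))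
    (W : (X.basicOpen f).toScheme.Opens) (x : (X.basicOpen f).toScheme) (hx : x ∈ W) :
    ∃ (g : Γ(X, U)) (V : (X.basicOpen f).toScheme.Opens), V ≤ W ∧ x ∈ V ∧
      (X.basicOpen f).ι ''ᵁ V = X.basicOpen g ∧ X.basicOpen g ≤ X.basicOpen f := by
  have hx' : (X.basicOpen f).ι x ∈ (X.basicOpen f).ι ''ᵁ W := ⟨x, hx, rfl⟩
  have hxU : (X.basicOpen f).ι x ∈ U := X.basicOpen_le f x.2
  obtain ⟨g, hle, hxg⟩ := hU.exists_basicOpen_le ⟨_, hx'⟩ hxU
  refine ⟨g, (X.basicOpen f).ι ⁻¹ᵁ X.basicOpen g, ?_, hxg, ?_,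
    hle.trans ((X.basicOpen f).ι_image_le W)⟩
  · intro y hy
    obtain ⟨y', hy', he⟩ := hle hy
    have : y' = y := (X.basicOpen f).ι.isOpenEmbedding.injective he
    exact this ▸ hy'
  · rw [Scheme.Hom.image_preimage_eq_opensRange_inf, Scheme.Opens.opensRange_ι]
    exact inf_eq_right.2 (hle.trans ((X.basicOpen f).ι_image_le W))

theorem span_restrict_of_spansUpTo (F : X.Modules) (hF : Coh.IsQCoh F) {U : X.Opens}
    (hU : IsAffineOpen U) (f g : Γ(X, U)) {r : ℕ} (m : Fin r → Γ(F, U))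
    (hm : SpansUpTo (Submonoid.powers f) m) {V : (X.basicOpen f).toScheme.Opens}
    (hV : (X.basicOpen f).ι ''ᵁ V = X.basicOpen g) (hg : X.basicOpen g ≤ X.basicOpen f) :
    Submodule.span Γ(↑(X.basicOpen f), V)
      (Set.range fun j => (basicHom F f m).app V (gen _ r j V)) = ⊤ := by
  have h0 : ∀ (W : X.Opens) (hW : W = X.basicOpen g) (hle : W ≤ U), Submodule.span Γ(X, W)
      (Set.range fun j => F.presheaf.map (homOfLE hle).op (m j)) = ⊤ := by
    rintro _ rfl _
    exact span_basicOpen_of_spansUpTo F hF hU hm hg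
  have h1 := span_of_semilinear ((X.basicOpen f).ι.appIso V).hom.hom
    (F.restrictAppIso (X.basicOpen f).ι V).inv.hom
    (fun a n => Scheme.Modules.smul_restrictAppIso_inv_apply (X.basicOpen f).ι F V a n)
    (fun n => ⟨n, rfl⟩) (h0 _ hV (((X.basicOpen f).ι_image_le V).trans (X.basicOpen_le f)))
  simp only [basicHom_gen]
  exact h1

theorem epi_basicHom (F : X.Modules) (hF : Coh.IsQCoh F) {U : X.Opens} (hU : IsAffineOpen U)
    (f : Γ(X, U)) {r : ℕ} (m : Fin r → Γ(F, U)) (hm : SpansUpTo (Submonoid.powers f) m) :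
    Epi (basicHom F f m) := by
  refine H11Tilde.epi_of_locally_surjective _ fun W t x hx => ?_
  obtain ⟨g, V, hVW, hxV, hV, hg⟩ := exists_basic_nhd hU f W x hx
  obtain ⟨c, hc⟩ := (Submodule.mem_span_range_iff_exists_fun _).1
    ((span_restrict_of_spansUpTo F hF hU f g m hm hV hg).ge
      (Submodule.mem_top (x := (F.restrict (X.basicOpen f).ι).presheaf.map (homOfLE hVW).op t)))
  refine ⟨V, hVW, hxV, ∑ j, c j • gen _ r j V, ?_⟩
  rw [map_sum]
  simp only [Scheme.Modules.Hom.app_smul]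
  exact hc

end Groth.Agent.H29Fitt
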