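import Mathlib

/-!
# Ideals of minors of relations among a family of elements
-/

set_option autoImplicit false

open Matrix

namespace Groth.Agent.H29Fitt

variable {R M : Type*} [CommRing R] [AddCommGroup M] [Module R M]

section
variable {ι : Type*} [Fintype ι]

/-- The `m × m` minors of the relations among `x`. -/
def J (x : ι → M) (m : ℕ) : Ideal R :=
  Ideal.span {d | ∃ (z : Fin m → (ι → R)) (e : Fin m → ι),
    (∀ j, ∑ i, z j i • x i = 0) ∧ d = (Matrix.of fun a b => z b (e a)).det}

variable {x : ι → M} {m : ℕ}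

lemma det_mem_J {z : Fin m → (ι → R)} (hz : ∀ j, ∑ i, z j i • x i = 0) (e : Fin m → ι) :
    (Matrix.of fun a b => z b (e a)).det ∈ J (R := R) x m :=
  Ideal.subset_span ⟨z, e, hz, rfl⟩

lemma J_zero (x : ι → M) : J (R := R) x 0 = ⊤ := by
  rw [Ideal.eq_top_iff_one]
  exact Ideal.subset_span ⟨finZeroElim, finZeroElim, finZeroElim, by simp⟩

lemma J_le {I : Ideal R}
    (h : ∀ (z : Fin m → (ι → R)) (e : Fin m → ι), (∀ j, ∑ i, z j i • x i = 0) →
      (Matrix.of fun a b => z b (e a)).det ∈ I) : J x m ≤ I :=
  Ideal.span_le.mpr fun _ ⟨z, e, hz, hd⟩ => hd ▸ h z e hz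

/-- A matrix all of whose columns but the first are relations: its determinant lies in the minors. -/
lemma det_mem_J_of_tail (A : Matrix (Fin (m + 1)) (Fin (m + 1)) R) {I : Ideal R}
    (h : ∀ a : Fin (m + 1), (A.submatrix a.succAbove Fin.succ).det ∈ I) : A.det ∈ I := by
  rw [Matrix.det_succ_column_zero]
  exact Ideal.sum_mem _ fun a _ => Ideal.mul_mem_left _ _ (h a)

lemma J_succ_le (x : ι → M) (m : ℕ) : J (R := R) x (m + 1) ≤ J x m :=
  J_le fun z e hz => det_mem_J_of_tail _ fun a => det_mem_J (fun j => hz j.succ) (e ∘ a.succAbove)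

lemma J_anti (x : ι → M) {m m' : ℕ} (h : m ≤ m') : J (R := R) x m' ≤ J x m := by
  induction h with
  | refl => exact le_rfl
  | step _ ih => exact (J_succ_le x _).trans ih

lemma det_ext_mem {z : Fin m → (ι → R)} (hz : ∀ j, ∑ i, z j i • x i = 0) (e : Fin m → Option ι) :
    (Matrix.of fun a b => (e a).elim 0 (z b)).det ∈ J (R := R) x m := by
  by_cases h : ∃ a, e a = none
  · obtain ⟨a, ha⟩ := h
    rw [Matrix.det_eq_zero_of_row_eq_zero a fun b => by simp [ha]]
    exact Submodule.zero_mem _
  · push_neg at h
    choose e' he' using fun a => Option.ne_none_iff_exists'.mp (h a)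
    simp only [he', Option.elim_some]
    exact det_mem_J hz e'

/-- Adjoining a combination of the family does not change the minors. -/
lemma J_option {x : ι → M} {y : M} (c : ι → R) (hy : y = ∑ i, c i • x i) (m : ℕ) :
    J (R := R) (fun o : Option ι => o.elim y x) (m + 1) = J x m := by
  apply le_antisymm
  · refine J_le fun w e hw => ?_
    let w' : Fin (m + 1) → ι → R := fun b i => w b (some i) + w b none * c i
    have hw' : ∀ b, ∑ i, w' b i • x i = 0 := fun b => by
      simp only [w', add_smul, mul_smul, Finset.sum_add_distrib, ← Finset.smul_sum, ← hy]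
      rw [add_comm]
      simpa [Fintype.sum_option] using hw b
    let r₀ : Option ι → R := fun o => o.elim 1 (fun i => -c i)
    let D : Matrix (Fin (m + 1)) (Fin (m + 1)) R := Matrix.of fun a b => (e a).elim 0 (w' b)
    let N : Matrix (Fin (m + 2)) (Fin (m + 2)) R := Matrix.of
      (Fin.cons (Fin.cons 1 (fun b => -(w b none))) fun a => Fin.cons (r₀ (e a)) (D a))
    let N' : Matrix (Fin (m + 2)) (Fin (m + 2)) R := Matrix.of
      (Fin.cons (Fin.cons 1 (fun b => -(w b none))) fun a => Fin.cons 0 fun b => w b (e a))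
    have h1 : N.det = N'.det := by
      refine Matrix.det_eq_of_forall_row_eq_smul_add_const (Fin.cons 0 fun a => r₀ (e a)) 0 (by simp) ?_
      intro i j
      refine Fin.cases ?_ (fun a => ?_) i <;> refine Fin.cases ?_ (fun b => ?_) j
      · simp [N, N']
      · simp [N, N']
      · simp [N, N']
      · simp only [N, N', Matrix.of_apply, Fin.cons_succ, Fin.cons_zero, D, r₀, w']
        cases e a <;> simp <;> ring
    have h2 : N'.det = (Matrix.of fun a b => w b (e a)).det := by
      rw [Matrix.det_succ_column_zero, Fin.sum_univ_succ]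
      simp [N', Matrix.submatrix]
    rw [← h2, ← h1, Matrix.det_succ_row_zero]
    refine Ideal.sum_mem _ fun j _ => Ideal.mul_mem_left _ _ ?_
    refine Fin.cases ?_ (fun b => ?_) j
    · refine J_succ_le x m ?_
      convert det_ext_mem hw' e using 2
      ext p q
      simp [N, D, Matrix.submatrix]
    · refine det_mem_J_of_tail _ fun a => ?_
      convert det_ext_mem (fun k => hw' (b.succAbove k)) (e ∘ a.succAbove) using 2
      ext p q
      simp [N, D, Matrix.submatrix]
  · refine J_le fun z e hz => ?_
    let z' : Fin (m + 1) → Option ι → R :=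
      Fin.cons (fun o => o.elim 1 (fun i => -c i)) fun b o => o.elim 0 (z b)
    have hz' : ∀ j, ∑ o, z' j o • (fun o : Option ι => o.elim y x) o = 0 := by
      intro j
      refine Fin.cases ?_ (fun b => ?_) j
      · simp [z', Fintype.sum_option, hy, neg_smul, Finset.sum_neg_distrib]
      · simpa [z', Fintype.sum_option] using hz b
    have := det_mem_J hz' (Fin.cons none fun a => some (e a))
    rw [Matrix.det_succ_row_zero, Fin.sum_univ_succ] at this
    simpa [z', Matrix.submatrix] using this

lemma J_equiv {κ : Type*} [Fintype κ] (σ : κ ≃ ι) (x : ι → M) (m : ℕ) :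
    J (R := R) (x ∘ σ) m = J x m := by
  refine le_antisymm (J_le fun z e hz => ?_) (J_le fun z e hz => ?_)
  · have h := det_mem_J (x := x) (z := fun b => z b ∘ σ.symm) (fun j => by
      rw [← hz j]; exact (Fintype.sum_equiv σ _ _ fun a => by simp).symm) (σ ∘ e)
    simpa using h
  · have h := det_mem_J (x := x ∘ σ) (z := fun b => z b ∘ σ) (fun j => by
      rw [← hz j]; exact Fintype.sum_equiv σ _ _ fun a => by simp) (σ.symm ∘ e)
    simpa using h

end

lemma J_append (n p : ℕ) (x : Fin n → M) (y : Fin p → M)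
    (hx : Submodule.span R (Set.range x) = ⊤) (k : ℕ) :
    J (R := R) (Sum.elim x y) (n + p - k) = J x (n - k) := by
  induction p with
  | zero =>
    rw [← J_equiv (Equiv.sumEmpty (Fin n) (Fin 0)).symm]
    rfl
  | succ p ih =>
    let σ : Option (Fin n ⊕ Fin p) ≃ Fin n ⊕ Fin (p + 1) :=
      (((Equiv.optionEquivSumPUnit.{0, 0} (Fin n ⊕ Fin p)).trans (Equiv.sumAssoc _ _ _)).trans
        (Equiv.sumCongr (Equiv.refl _) ((Equiv.optionEquivSumPUnit.{0, 0} (Fin p)).symm.trans finSuccEquivLast.symm)))
    have hx' : y (Fin.last p) ∈ Submodule.span R (Set.range (Sum.elim x (y ∘ Fin.castSucc))) :=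
      Submodule.span_mono (s := Set.range x)
        (Set.range_subset_iff.mpr fun i => Set.mem_range.mpr ⟨Sum.inl i, rfl⟩) (hx ▸ Submodule.mem_top)
    obtain ⟨c, hc⟩ := (Submodule.mem_span_range_iff_exists_fun R).mp hx'
    have hσ : Sum.elim x y ∘ σ = fun o => o.elim (y (Fin.last p)) (Sum.elim x (y ∘ Fin.castSucc)) := by
      funext o
      rcases o with _ | (i | i) <;> simp [σ, finSuccEquivLast]
    rw [← J_equiv σ, hσ]
    rcases le_or_gt k (n + p) with hk | hk
    · rw [show n + (p + 1) - k = n + p - k + 1 by omega, J_option c hc.symm, ih]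
    · rw [show n + (p + 1) - k = 0 by omega, show n - k = 0 by omega, J_zero, J_zero]

/-- The minors do not depend on the generating family. -/
theorem J_eq_of_span {n p : ℕ} (x : Fin n → M) (y : Fin p → M)
    (hx : Submodule.span R (Set.range x) = ⊤) (hy : Submodule.span R (Set.range y) = ⊤) (k : ℕ) :
    J (R := R) x (n - k) = J y (p - k) := by
  rw [← J_append n p x y hx k, ← J_append p n y x hy k, add_comm p n, ← J_equiv (Equiv.sumComm _ _)]
  congr 1
  funext s
  rcases s with i | i <;> rfl

/-- Determinants with `m` relation rows. -/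
lemma det_mem_J_rows {ι : Type*} [Fintype ι] {x : ι → M} {m : ℕ} :
    ∀ (p : ℕ) (_ : m ≤ p) (z : Fin p → (ι → R)) (e : Fin p → ι)
      (_ : ∀ a : Fin p, (a : ℕ) < m → ∑ i, z a i • x i = 0),
      (Matrix.of fun a b => z a (e b)).det ∈ J (R := R) x m := by
  intro p
  induction p with
  | zero =>
    intro hm z e _
    obtain rfl : m = 0 := by omega
    rw [J_zero]; exact Submodule.mem_top
  | succ p ih =>
    intro hm z e hz
    rcases Nat.lt_or_ge m (p + 1) with h | h
    · rw [Matrix.det_succ_row _ (Fin.last p)]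
      refine Ideal.sum_mem _ fun j _ => Ideal.mul_mem_left _ _ ?_
      have := ih (by omega) (z ∘ Fin.castSucc) (e ∘ j.succAbove) (fun a ha => hz _ (by simpa using ha))
      simpa [Matrix.submatrix, Fin.succAbove_last] using this
    · obtain rfl : m = p + 1 := le_antisymm hm h
      rw [← Matrix.det_transpose]
      exact det_mem_J (fun j => hz j j.2) e

/-- Completing relation rows by unit rows. -/
lemma exists_square {n m : ℕ} (hm : m ≤ n) (z : Fin m → (Fin n → R)) (e : Fin m → Fin n)
    (he : Function.Injective e) :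
    ∃ a : Matrix (Fin n) (Fin n) R, (∀ i : Fin n, ∀ h : (i : ℕ) < m, a i = z ⟨i, h⟩) ∧
      (∃ u : Rˣ, a.det = u * (Matrix.of fun a b => z b (e a)).det) := by
  classical
  have hle : Function.Injective (Fin.castLE hm) := Fin.castLE_injective hm
  let τ : {i : Fin n // (i : ℕ) < m} ≃ {i : Fin n // i ∈ Set.range e} :=
    { toFun := fun i => ⟨e ⟨i.1, i.2⟩, ⟨_, rfl⟩⟩
      invFun := fun i => ⟨Fin.castLE hm i.2.choose, by simp⟩
      left_inv := fun i => by
        apply Subtype.ext
        have := he (Exists.choose_spec (⟨⟨i.1, i.2⟩, rfl⟩ : e ⟨i.1, i.2⟩ ∈ Set.range e))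
        exact Fin.ext (by simp [this])
      right_inv := fun i => Subtype.ext (by simpa using i.2.choose_spec) }
  let σ : Equiv.Perm (Fin n) := τ.extendSubtype
  have hσ : ∀ (i : Fin n) (h : (i : ℕ) < m), σ i = e ⟨i, h⟩ := fun i h =>
    τ.extendSubtype_apply_of_mem i h
  let a : Matrix (Fin n) (Fin n) R := Matrix.of fun i =>
    if h : (i : ℕ) < m then z ⟨i, h⟩ else Pi.single (σ i) 1
  refine ⟨a, fun i h => by ext j; simp [a, h], ⟨((Equiv.Perm.sign σ : ℤˣ).map (Int.castRingHom R).toMonoidHom), ?_⟩⟩
  have hperm := Matrix.det_permute' σ a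
  suffices hsub : (a.submatrix id σ).det = (Matrix.of fun a b => z b (e a)).det by
    rw [← hsub, hperm, ← mul_assoc]
    have : ((Units.map (Int.castRingHom R).toMonoidHom (Equiv.Perm.sign σ) : Rˣ) : R) *
        ((Equiv.Perm.sign σ : ℤˣ) : R) = 1 := by
      rcases Int.units_eq_one_or (Equiv.Perm.sign σ) with h | h <;> simp [h]
    rw [this, one_mul]
  have key : ∀ (p : ℕ) (hp : p ≤ n), m ≤ p →
      ((a.submatrix id σ).submatrix (Fin.castLE hp) (Fin.castLE hp)).det =
        (Matrix.of fun a b => z b (e a)).det := by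
    intro p
    induction p with
    | zero =>
      intro hp hmp
      obtain rfl : m = 0 := by omega
      simp
    | succ p ih =>
      intro hp hmp
      rcases Nat.lt_or_ge m (p + 1) with h | h
      · rw [← ih (by omega) (by omega), Matrix.det_succ_row _ (Fin.last p), Finset.sum_eq_single (Fin.last p)]
        · have hlast : ¬ ((Fin.last p : Fin (p + 1)) : ℕ) < m := by simp; omega
          simp [a, Matrix.submatrix, Fin.succAbove_last, show ¬ p < m by omega]
        · intro b _ hb
          have : σ (Fin.castLE hp b) ≠ σ (Fin.castLE hp (Fin.last p)) := fun h =>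
            hb (Fin.castLE_injective hp (σ.injective h))
          simp [a, Matrix.submatrix, show ¬ p < m by omega, Pi.single_eq_of_ne this]
        · simp
      · obtain rfl : m = p + 1 := le_antisymm hmp h
        rw [← Matrix.det_transpose]
        congr 1
        ext i j
        simp [a, Matrix.submatrix, hσ (Fin.castLE hp i) i.2, Fin.is_le j]
  simpa using key n le_rfl hm

end Groth.Agent.H29Fitt
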