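import Groth.Prelude.Def_Fitting
import Groth.Agent.H29Fitt.Minors

/-!
# Fitting ideals: computation from one generating family, base change, support
-/

set_option autoImplicit false

universe u v

open Matrix TensorProduct

namespace Groth.Agent.H29Fitt

variable {R : Type u} {M : Type v} [CommRing R] [AddCommGroup M] [Module R M]

theorem ideal_eq {n : ℕ} (x : Fin n → M) (hx : Submodule.span R (Set.range x) = ⊤) (k : ℕ) :
    Fitt.ideal R M k = J x (n - k) := by
  apply le_antisymm
  · refine Ideal.span_le.mpr ?_
    rintro d ⟨p, y, a, hy, ha, rfl⟩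
    rw [SetLike.mem_coe, J_eq_of_span x y hx hy]
    exact det_mem_J_rows p (Nat.sub_le p k) a id ha
  · refine J_le fun z e hz => ?_
    by_cases he : Function.Injective e
    · obtain ⟨a, ha, u, hu⟩ := exists_square (Nat.sub_le n k) z e he
      rw [← (Units.inv_mul_cancel_left u (Matrix.of fun a b => z b (e a)).det), ← hu]
      exact Ideal.mul_mem_left _ _ (Ideal.subset_span ⟨n, x, a, hx, fun i hi => ha i hi ▸ hz _, rfl⟩)
    · obtain ⟨i, j, hij, hne⟩ := Function.not_injective_iff.mp he
      rw [Matrix.det_zero_of_row_eq hne (by ext b; simp [hij])]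
      exact Submodule.zero_mem _

/-- The minors may be computed on a generating set of the relations. -/
theorem J_le_of_span {ι : Type*} [Fintype ι] {x : ι → M} {m : ℕ} (S : Set (ι → R))
    (hS : ∀ w : ι → R, ∑ i, w i • x i = 0 → w ∈ Submodule.span R S) {I : Ideal R}
    (h : ∀ (z : Fin m → (ι → R)) (e : Fin m → ι), (∀ j, z j ∈ S) →
      (Matrix.of fun a b => z b (e a)).det ∈ I) : J x m ≤ I := by
  classical
  refine J_le fun z e hz => ?_
  suffices key : ∀ (T : Finset (Fin m)) (z : Fin m → (ι → R)),
      (∀ j ∈ T, z j ∈ Submodule.span R S) → (∀ j ∉ T, z j ∈ S) →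
      (Matrix.of fun a b => z b (e a)).det ∈ I from
    key Finset.univ z (fun j _ => hS _ (hz j)) (fun j hj => absurd (Finset.mem_univ j) hj)
  intro T
  induction T using Finset.induction_on with
  | empty => exact fun z _ hz => h z e fun j => hz j (Finset.notMem_empty j)
  | insert c T hc ih =>
    intro z h1 h2
    have hupd : ∀ v : ι → R, (Matrix.of fun a b => (Function.update z c v) b (e a)) =
        (Matrix.of fun a b => z b (e a)).updateCol c (fun a => v (e a)) := fun v => by
      ext a b
      by_cases hb : b = c <;> simp [hb]
    suffices ∀ v ∈ Submodule.span R S,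
        ((Matrix.of fun a b => z b (e a)).updateCol c (fun a => v (e a))).det ∈ I by
      have := this (z c) (h1 c (Finset.mem_insert_self c T))
      rwa [← hupd, Function.update_eq_self] at this
    intro v hv
    induction hv using Submodule.span_induction with
    | mem v hv =>
      rw [← hupd]
      refine ih _ (fun j hj => ?_) (fun j hj => ?_)
      · rw [Function.update_of_ne (ne_of_mem_of_not_mem hj hc)]
        exact h1 j (Finset.mem_insert_of_mem hj)
      · by_cases hjc : j = c
        · subst hjc; rwa [Function.update_self]
        · rw [Function.update_of_ne hjc]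
          exact h2 j (by simp [hjc, hj])
    | zero =>
      rw [Matrix.det_eq_zero_of_column_eq_zero c (fun a => by simp)]
      exact Submodule.zero_mem _
    | add v w _ _ hv hw =>
      rw [show (fun a => (v + w) (e a)) = (fun a => v (e a)) + fun a => w (e a) from rfl, Matrix.det_updateCol_add]
      exact add_mem hv hw
    | smul r v _ hv =>
      rw [show (fun a => (r • v) (e a)) = r • fun a => v (e a) from rfl, Matrix.det_updateCol_smul]
      exact Ideal.mul_mem_left _ _ hv

theorem ideal_baseChange {R' : Type u} [CommRing R'] [Algebra R R'] [Module.Finite R M] (k : ℕ) :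
    Fitt.ideal R' (R' ⊗[R] M) k = (Fitt.ideal R M k).map (algebraMap R R') := by
  classical
  obtain ⟨n, x, hx⟩ := Module.Finite.exists_fin (R := R) (M := M)
  let x' : Fin n → R' ⊗[R] M := fun i => 1 ⊗ₜ x i
  let π : (Fin n → R) →ₗ[R] M := Fintype.linearCombination R x
  have hπ : Function.Surjective π := LinearMap.range_eq_top.mp (by rw [Fintype.range_linearCombination, hx])
  have hx' : Submodule.span R' (Set.range x') = ⊤ := by
    rw [eq_top_iff]
    rintro t -
    induction t using TensorProduct.induction_on with
    | zero => exact Submodule.zero_mem _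
    | add a b ha hb => exact add_mem ha hb
    | tmul r m =>
      obtain ⟨w, rfl⟩ := hπ m
      rw [show π w = ∑ i, w i • x i from Fintype.linearCombination_apply R x w, TensorProduct.tmul_sum]
      refine Submodule.sum_mem _ fun i _ => ?_
      rw [TensorProduct.tmul_smul, show r ⊗ₜ[R] x i = r • x' i by simp [x', TensorProduct.smul_tmul']]
      exact Submodule.smul_of_tower_mem _ _ (Submodule.smul_mem _ _ (Submodule.subset_span ⟨i, rfl⟩))
  rw [ideal_eq x hx, ideal_eq x' hx']
  apply le_antisymm
  · refine J_le_of_span
      ((fun w : Fin n → R => fun i => algebraMap R R' (w i)) '' {w | ∑ i, w i • x i = 0}) ?_ ?_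
    · intro w hw
      have hex := lTensor_exact R' (LinearMap.exact_subtype_ker_map π) hπ
      let E := TensorProduct.piScalarRight R R' R' (Fin n)
      have hzero : LinearMap.lTensor R' π (E.symm w) = 0 := by
        have : ∀ t : R' ⊗[R] (Fin n → R), LinearMap.lTensor R' π t = ∑ i, E t i • x' i := by
          intro t
          induction t using TensorProduct.induction_on with
          | zero => simp
          | add a b ha hb => simp [map_add, add_smul, Finset.sum_add_distrib, ha, hb]
          | tmul r v =>
            simp [E, π, x', Fintype.linearCombination_apply, TensorProduct.tmul_sum,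
              TensorProduct.smul_tmul', TensorProduct.tmul_smul]
        rw [this, LinearEquiv.apply_symm_apply]; exact hw
      obtain ⟨s, hs⟩ := (hex _).mp hzero
      have hgen : ∀ s : R' ⊗[R] (LinearMap.ker π), E (LinearMap.lTensor R' (LinearMap.ker π).subtype s) ∈
          Submodule.span R' ((fun w : Fin n → R => fun i => algebraMap R R' (w i)) '' {w | ∑ i, w i • x i = 0}) := by
        intro s
        induction s using TensorProduct.induction_on with
        | zero => simp
        | add a b ha hb => rw [map_add, map_add]; exact add_mem ha hb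
        | tmul r v =>
          have : E (LinearMap.lTensor R' (LinearMap.ker π).subtype (r ⊗ₜ v)) =
              r • fun i => algebraMap R R' ((v : Fin n → R) i) := by
            funext i
            simp [E, Algebra.smul_def, mul_comm]
          rw [this]
          refine Submodule.smul_mem _ _ (Submodule.subset_span ⟨v.1, ?_, rfl⟩)
          simpa [π, Fintype.linearCombination_apply] using v.2
      have := hgen s
      rwa [hs, LinearEquiv.apply_symm_apply] at this
    · intro z e hz
      choose w hw hwz using hz
      rw [show (Matrix.of fun a b => z b (e a)) = (Matrix.of fun a b => w b (e a)).map (algebraMap R R') by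
        ext a b; simp [← hwz], ← RingHom.mapMatrix_apply, ← RingHom.map_det]
      exact Ideal.mem_map_of_mem _ (det_mem_J hw e)
  · rw [J, Ideal.map_span, Ideal.span_le]
    rintro - ⟨-, ⟨z, e, hz, rfl⟩, rfl⟩
    rw [RingHom.map_det, RingHom.mapMatrix_apply]
    refine Ideal.subset_span ⟨fun b i => algebraMap R R' (z b i), e, fun b => ?_, rfl⟩
    simp only [x', TensorProduct.smul_tmul', Algebra.algebraMap_eq_smul_one, smul_assoc, one_smul,
      TensorProduct.smul_tmul]
    rw [← TensorProduct.tmul_sum, hz b, TensorProduct.tmul_zero]

theorem ideal_zero_le_annihilator [Module.Finite R M] :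
    Fitt.ideal R M 0 ≤ Module.annihilator R M := by
  obtain ⟨n, x, hx⟩ := Module.Finite.exists_fin (R := R) (M := M)
  rw [ideal_eq x hx, Nat.sub_zero]
  refine J_le fun z e hz => ?_
  by_cases he : Function.Injective e
  · rw [Module.mem_annihilator]
    set a : Matrix (Fin n) (Fin n) R := Matrix.of fun b i => z b i
    have hdet : ∀ i, a.det • x i = 0 := by
      intro i
      have h := congrArg (fun A : Matrix (Fin n) (Fin n) R => ∑ j, A i j • x j) (Matrix.adjugate_mul a)
      simp only [Matrix.mul_apply, Finset.sum_smul, Matrix.smul_apply, Matrix.one_apply, smul_eq_mul,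
        mul_ite, mul_one, mul_zero, ite_smul, zero_smul, Finset.sum_ite_eq, Finset.mem_univ, if_true,
        mul_smul] at h
      rw [← h, Finset.sum_comm]
      refine Finset.sum_eq_zero fun b _ => ?_
      rw [← Finset.smul_sum, show ∑ j, a b j • x j = 0 from hz b, smul_zero]
    let σ := Equiv.ofBijective e (Finite.injective_iff_bijective.mp he)
    have hM : (Matrix.of fun a b => z b (e a)).det = (Equiv.Perm.sign σ : R) * a.det := by
      rw [← Matrix.det_transpose, ← Matrix.det_permute' σ a]; rfl
    intro m
    have hm : m ∈ Submodule.span R (Set.range x) := hx ▸ Submodule.mem_top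
    induction hm using Submodule.span_induction with
    | mem m hm => obtain ⟨i, rfl⟩ := hm; rw [hM, mul_smul, hdet, smul_zero]
    | zero => exact smul_zero _
    | add a b _ _ ha hb => rw [smul_add, ha, hb, add_zero]
    | smul r a _ ha => rw [smul_comm, ha, smul_zero]
  · obtain ⟨i, j, hij, hne⟩ := Function.not_injective_iff.mp he
    rw [Matrix.det_zero_of_row_eq hne (by ext b; simp [hij])]
    exact Submodule.zero_mem _

theorem annihilator_le_radical_ideal_zero [Module.Finite R M] :
    Module.annihilator R M ≤ (Fitt.ideal R M 0).radical := by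
  classical
  obtain ⟨n, x, hx⟩ := Module.Finite.exists_fin (R := R) (M := M)
  intro c hc
  refine ⟨n, ?_⟩
  rw [ideal_eq x hx, Nat.sub_zero]
  have := det_mem_J (x := x) (z := fun b : Fin n => Pi.single b c) (fun b => by
    simp [Pi.single_apply, ite_smul, Module.mem_annihilator.mp hc]) id
  have h : (Matrix.of fun a b : Fin n => (Pi.single b c : Fin n → R) (id a)) = Matrix.diagonal fun _ => c := by
    ext a b
    by_cases hab : a = b <;> simp [Matrix.diagonal, hab]
  rw [h, Matrix.det_diagonal, Finset.prod_const, Finset.card_univ, Fintype.card_fin] at this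
  exact this

theorem zeroLocus_ideal_zero [Module.Finite R M] :
    PrimeSpectrum.zeroLocus (Fitt.ideal R M 0 : Set R) = Module.support R M := by
  rw [Module.support_eq_zeroLocus]
  refine Set.Subset.antisymm ?_ (PrimeSpectrum.zeroLocus_anti_mono ideal_zero_le_annihilator)
  rw [← PrimeSpectrum.zeroLocus_radical (Fitt.ideal R M 0)]
  exact PrimeSpectrum.zeroLocus_anti_mono annihilator_le_radical_ideal_zero

end Groth.Agent.H29Fitt
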