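import Groth.Agent.H29Fitt.Ideal

/-!
# Fitting ideals and numbers of local generators
-/

set_option autoImplicit false

universe u

open Matrix TensorProduct

namespace Groth.Agent.H29Fitt

variable {R : Type u} {M : Type u} [CommRing R] [AddCommGroup M] [Module R M]

theorem ideal_eq_top_of_span {n : ℕ} (x : Fin n → M) (hx : Submodule.span R (Set.range x) = ⊤) {k : ℕ}
    (hk : n ≤ k) : Fitt.ideal R M k = ⊤ := by
  rw [ideal_eq x hx, Nat.sub_eq_zero_of_le hk, J_zero]

theorem ideal_mono_of_surjective {M' : Type u} [AddCommGroup M'] [Module R M'] [Module.Finite R M]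
    (f : M →ₗ[R] M') (hf : Function.Surjective f) (k : ℕ) :
    Fitt.ideal R M k ≤ Fitt.ideal R M' k := by
  obtain ⟨n, x, hx⟩ := Module.Finite.exists_fin (R := R) (M := M)
  have hx' : Submodule.span R (Set.range (f ∘ x)) = ⊤ := by
    rw [Set.range_comp, ← Submodule.map_span, hx, Submodule.map_top, LinearMap.range_eq_top.mpr hf]
  rw [ideal_eq x hx, ideal_eq _ hx']
  refine J_le fun z e hz => det_mem_J (fun j => ?_) e
  have := congrArg f (hz j)
  simpa [map_sum, map_smul] using this

theorem ideal_fg [Module.FinitePresentation R M] (k : ℕ) : (Fitt.ideal R M k).FG := by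
  classical
  obtain ⟨n, x, hx⟩ := Module.Finite.exists_fin (R := R) (M := M)
  have hπ : Function.Surjective (Fintype.linearCombination R x) :=
    LinearMap.range_eq_top.mp (by rw [Fintype.range_linearCombination, hx])
  obtain ⟨S, hS⟩ := Module.FinitePresentation.fg_ker _ hπ
  rw [ideal_eq x hx]
  let g : (Fin (n - k) → S) × (Fin (n - k) → Fin n) → R := fun p =>
    (Matrix.of fun a b => (p.1 b : Fin n → R) (p.2 a)).det
  refine ⟨Finset.univ.image g, le_antisymm (Ideal.span_le.mpr ?_) (J_le_of_span (S : Set (Fin n → R)) ?_ ?_)⟩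
  · intro d hd
    obtain ⟨p, -, rfl⟩ := Finset.mem_image.mp hd
    refine det_mem_J (fun j => ?_) p.2
    have : (p.1 j : Fin n → R) ∈ LinearMap.ker (Fintype.linearCombination R x) :=
      hS ▸ Submodule.subset_span (p.1 j).2
    simpa [Fintype.linearCombination_apply] using this
  · intro w hw
    rw [hS]
    simpa [Fintype.linearCombination_apply] using hw
  · intro z e hz
    exact Ideal.subset_span (Finset.mem_image.mpr ⟨(fun j => ⟨z j, hz j⟩, e), Finset.mem_univ _, rfl⟩)

theorem ideal_quotient_zero (I : Ideal R) : Fitt.ideal R (R ⧸ I) 0 = I := by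
  have hx : Submodule.span R (Set.range fun _ : Fin 1 => Ideal.Quotient.mk I 1) = ⊤ := by
    rw [eq_top_iff]
    rintro m -
    obtain ⟨r, rfl⟩ := Ideal.Quotient.mk_surjective m
    rw [show Ideal.Quotient.mk I r = r • Ideal.Quotient.mk I 1 by
      rw [Algebra.smul_def, Ideal.Quotient.algebraMap_eq, map_one, mul_one]]
    exact Submodule.smul_mem _ _ (Submodule.subset_span ⟨0, rfl⟩)
  rw [ideal_eq _ hx, Nat.sub_zero]
  apply le_antisymm
  · refine J_le fun z e hz => ?_
    rw [Matrix.det_fin_one, Matrix.of_apply, Subsingleton.elim (e 0) 0, ← Ideal.Quotient.eq_zero_iff_mem]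
    have := hz 0
    simpa [Algebra.smul_def] using this
  · intro r hr
    have := det_mem_J (x := fun _ : Fin 1 => Ideal.Quotient.mk I 1)
      (z := fun _ _ => r) (fun j => by simp [Algebra.smul_def, Ideal.Quotient.eq_zero_iff_mem.mpr hr]) id
    simpa using this

theorem ideal_field {K : Type u} [Field K] {V : Type u} [AddCommGroup V] [Module K V]
    [Module.Finite K V] (k : ℕ) :
    Fitt.ideal K V k = if Module.finrank K V ≤ k then ⊤ else ⊥ := by
  let b := Module.finBasis K V
  split_ifs with h
  · exact ideal_eq_top_of_span b b.span_eq h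
  · rw [ideal_eq b b.span_eq, eq_bot_iff]
    refine J_le fun z e hz => ?_
    haveI : Nonempty (Fin (Module.finrank K V - k)) := ⟨⟨0, by omega⟩⟩
    rw [Matrix.det_eq_zero_of_column_eq_zero (Classical.arbitrary _) fun a =>
      Fintype.linearIndependent_iff.mp b.linearIndependent (z _) (hz _) (e a)]
    exact Submodule.zero_mem _

theorem not_le_prime_iff_finrank_le [Module.Finite R M] (k : ℕ) (p : Ideal R) [p.IsPrime] :
    ¬ Fitt.ideal R M k ≤ p ↔ Module.finrank p.ResidueField (p.ResidueField ⊗[R] M) ≤ k := by
  have h1 : (Fitt.ideal R M k).map (algebraMap R p.ResidueField) = ⊥ ↔ Fitt.ideal R M k ≤ p := by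
    rw [Ideal.map_eq_bot_iff_le_ker, Ideal.ker_algebraMap_residueField]
  rw [← h1, ← ideal_baseChange k, ideal_field]
  split_ifs with h <;> simp [h]

/-- Every element becomes a combination of `m` after multiplying by an element of `S`. -/
def SpansUpTo (S : Submonoid R) {k : ℕ} (m : Fin k → M) : Prop :=
  ∀ x : M, ∃ s ∈ S, s • x ∈ Submodule.span R (Set.range m)

theorem exists_spansUpTo_powers [Module.Finite R M] {k : ℕ} {p : Ideal R} [p.IsPrime]
    (h : ¬ Fitt.ideal R M k ≤ p) :
    ∃ f : R, f ∉ p ∧ ∃ m : Fin k → M, SpansUpTo (Submonoid.powers f) m := by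
  classical
  obtain ⟨n, x, hx⟩ := Module.Finite.exists_fin (R := R) (M := M)
  rw [ideal_eq x hx, J, Ideal.span_le, Set.not_subset] at h
  obtain ⟨d, ⟨z, e, hz, rfl⟩, hd⟩ := h
  rw [SetLike.mem_coe] at hd
  have he : Function.Injective e := by
    by_contra he
    obtain ⟨i, j, hij, hne⟩ := Function.not_injective_iff.mp he
    exact hd (by rw [Matrix.det_zero_of_row_eq hne (by ext b; simp [hij])]; exact p.zero_mem)
  set A : Matrix (Fin (n - k)) (Fin (n - k)) R := Matrix.of fun a b => z b (e a)
  let T : Finset (Fin n) := (Finset.univ.image e)ᶜ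
  have hT : T.card ≤ k := by
    rw [Finset.card_compl, Finset.card_image_of_injective _ he, Finset.card_univ, Fintype.card_fin,
      Fintype.card_fin]
    omega
  let m : Fin k → M := fun j => if h : (j : ℕ) < T.card then x (T.equivFin.symm ⟨j, h⟩) else 0
  have hout : ∀ i ∈ T, x i ∈ Submodule.span R (Set.range m) := fun i hi => by
    refine Submodule.subset_span ⟨⟨T.equivFin ⟨i, hi⟩, lt_of_lt_of_le (Fin.is_lt _) hT⟩, ?_⟩
    simp [m]
  refine ⟨A.det, hd, m, fun y => ⟨A.det, Submonoid.mem_powers _, ?_⟩⟩
  have hin : ∀ a, A.det • x (e a) ∈ Submodule.span R (Set.range m) := by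
    intro a
    have h2 : ∀ b, ∑ a', A a' b • x (e a') ∈ Submodule.span R (Set.range m) := fun b => by
      have h3 := hz b
      rw [← Finset.sum_add_sum_compl (Finset.univ.image e), Finset.sum_image he.injOn] at h3
      rw [show ∑ a', A a' b • x (e a') = ∑ a', z b (e a') • x (e a') from rfl,
        eq_neg_of_add_eq_zero_left h3]
      exact neg_mem (Submodule.sum_mem _ fun i hi => Submodule.smul_mem _ _ (hout i hi))
    have h4 := congrArg (fun B : Matrix (Fin (n - k)) (Fin (n - k)) R => ∑ a', B a' a • x (e a'))
      (Matrix.mul_adjugate A)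
    simp only [Matrix.mul_apply, Finset.sum_smul, Matrix.smul_apply, Matrix.one_apply, smul_eq_mul,
      mul_ite, mul_one, mul_zero, ite_smul, zero_smul, Finset.sum_ite_eq', Finset.mem_univ, if_true] at h4
    rw [← h4, Finset.sum_comm]
    refine Submodule.sum_mem _ fun b _ => ?_
    simp only [mul_comm _ (A.adjugate b a), mul_smul, ← Finset.smul_sum]
    exact Submodule.smul_mem _ _ (h2 b)
  have hy : y ∈ Submodule.span R (Set.range x) := hx ▸ Submodule.mem_top
  induction hy using Submodule.span_induction with
  | mem y hy =>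
    obtain ⟨i, rfl⟩ := hy
    by_cases hi : i ∈ T
    · exact Submodule.smul_mem _ _ (hout i hi)
    · obtain ⟨a, -, rfl⟩ := Finset.mem_image.mp (by simpa [T] using hi : i ∈ Finset.univ.image e)
      exact hin a
  | zero => rw [smul_zero]; exact Submodule.zero_mem _
  | add a b _ _ ha hb => rw [smul_add]; exact add_mem ha hb
  | smul r a _ ha => rw [smul_comm]; exact Submodule.smul_mem _ _ ha

theorem finrank_le_of_spansUpTo [Module.Finite R M] {k : ℕ} {p : Ideal R} [p.IsPrime] {S : Submonoid R}
    (hS : S ≤ p.primeCompl) {m : Fin k → M} (hm : SpansUpTo S m) :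
    Module.finrank p.ResidueField (p.ResidueField ⊗[R] M) ≤ k := by
  classical
  let g : Fin k → p.ResidueField ⊗[R] M := fun j => 1 ⊗ₜ m j
  have hg : Submodule.span p.ResidueField (Set.range g) = ⊤ := by
    rw [eq_top_iff]
    rintro t -
    induction t using TensorProduct.induction_on with
    | zero => exact Submodule.zero_mem _
    | add a b ha hb => exact add_mem ha hb
    | tmul r y =>
      obtain ⟨s, hs, hsy⟩ := hm y
      have hu : algebraMap R p.ResidueField s ≠ 0 := fun h0 => hS hs
        ((Ideal.ker_algebraMap_residueField p).le h0)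
      have hmem : ∀ z ∈ Submodule.span R (Set.range m),
          (1 : p.ResidueField) ⊗ₜ[R] z ∈ Submodule.span p.ResidueField (Set.range g) := by
        intro z hz
        induction hz using Submodule.span_induction with
        | mem z hz => obtain ⟨j, rfl⟩ := hz; exact Submodule.subset_span ⟨j, rfl⟩
        | zero => rw [TensorProduct.tmul_zero]; exact Submodule.zero_mem _
        | add a b _ _ ha hb => rw [TensorProduct.tmul_add]; exact add_mem ha hb
        | smul c a _ ha => rw [TensorProduct.tmul_smul]; exact Submodule.smul_of_tower_mem _ _ ha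
      have := Submodule.smul_mem _ (r / algebraMap R p.ResidueField s) (hmem _ hsy)
      rwa [TensorProduct.tmul_smul, TensorProduct.smul_tmul', TensorProduct.smul_tmul', smul_eq_mul,
        Algebra.smul_def, mul_one, div_mul_cancel₀ _ hu] at this
  have h := finrank_span_le_card (R := p.ResidueField) (Set.range g)
  rw [hg, finrank_top] at h
  refine h.trans ?_
  rw [Set.toFinset_range]
  exact Finset.card_image_le.trans (by simp)

theorem spansUpTo_of_span_localized {S : Submonoid R} {k : ℕ}
    (g : Fin k → LocalizedModule S M) (hg : Submodule.span (Localization S) (Set.range g) = ⊤) :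
    ∃ m : Fin k → M, SpansUpTo S m := by
  have hrep : ∀ j, ∃ (m : M) (s : S), g j = LocalizedModule.mk m s := fun j => by
    induction g j using LocalizedModule.induction_on with
    | h m s => exact ⟨m, s, rfl⟩
  choose m s hms using hrep
  refine ⟨m, fun y => ?_⟩
  have key : ∀ t ∈ Submodule.span (Localization S) (Set.range g),
      ∃ z ∈ Submodule.span R (Set.range m), ∃ u : S, t = LocalizedModule.mk z u := by
    intro t ht
    induction ht using Submodule.span_induction with
    | mem t ht => obtain ⟨j, rfl⟩ := ht; exact ⟨m j, Submodule.subset_span ⟨j, rfl⟩, s j, hms j⟩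
    | zero => exact ⟨0, Submodule.zero_mem _, 1, (LocalizedModule.zero_mk 1).symm⟩
    | add a b _ _ ha hb =>
      obtain ⟨za, hza, ua, rfl⟩ := ha
      obtain ⟨zb, hzb, ub, rfl⟩ := hb
      exact ⟨_, add_mem (Submodule.smul_of_tower_mem _ ub hza) (Submodule.smul_of_tower_mem _ ua hzb), _,
        LocalizedModule.mk_add_mk⟩
    | smul r a _ ha =>
      obtain ⟨za, hza, ua, rfl⟩ := ha
      induction r using Localization.induction_on with
      | H p =>
        exact ⟨_, Submodule.smul_mem _ p.1 hza, p.2 * ua, LocalizedModule.mk_smul_mk _ _ _ _⟩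
  obtain ⟨z, hz, u, hu⟩ := key (LocalizedModule.mk y 1) (hg ▸ Submodule.mem_top)
  obtain ⟨v, hv⟩ := LocalizedModule.mk_eq.mp hu
  refine ⟨(v * u : S), (v * u).2, ?_⟩
  simp only [Submonoid.smul_def, OneMemClass.coe_one, one_smul] at hv
  rw [Submonoid.coe_mul, mul_smul, hv]
  exact Submodule.smul_mem _ _ hz

theorem span_localized_of_spansUpTo {S : Submonoid R} {k : ℕ} {m : Fin k → M} (hm : SpansUpTo S m) :
    Submodule.span (Localization S) (Set.range fun j => LocalizedModule.mk (m j) (1 : S)) = ⊤ := by
  rw [eq_top_iff]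
  rintro t -
  induction t using LocalizedModule.induction_on with
  | h y u =>
    obtain ⟨s, hs, hsy⟩ := hm y
    have hmem : ∀ z ∈ Submodule.span R (Set.range m), LocalizedModule.mk z (1 : S) ∈
        Submodule.span (Localization S) (Set.range fun j => LocalizedModule.mk (m j) (1 : S)) := by
      intro z hz
      induction hz using Submodule.span_induction with
      | mem z hz => obtain ⟨j, rfl⟩ := hz; exact Submodule.subset_span ⟨j, rfl⟩
      | zero => rw [LocalizedModule.zero_mk]; exact Submodule.zero_mem _
      | add a b _ _ ha hb =>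
        have := add_mem ha hb
        rwa [LocalizedModule.mk_add_mk, one_smul, one_smul, one_mul] at this
      | smul c a _ ha =>
        have := Submodule.smul_mem _ (Localization.mk c (1 : S)) ha
        rwa [LocalizedModule.mk_smul_mk, one_mul] at this
    have := Submodule.smul_mem _ (Localization.mk 1 (⟨s, hs⟩ * u)) (hmem _ hsy)
    rw [LocalizedModule.mk_smul_mk, one_smul, mul_one] at this
    rwa [show LocalizedModule.mk y u = LocalizedModule.mk (s • y) (⟨s, hs⟩ * u) from
      (LocalizedModule.mk_cancel_common_left ⟨s, hs⟩ u y).symm]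

end Groth.Agent.H29Fitt
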