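import Groth.Agent.H29Fitt.Rank

/-!
# Fitting ideals of a product
-/

set_option autoImplicit false

universe u

open Matrix

namespace Groth.Agent.H29Fitt

variable {R M M' : Type u} [CommRing R] [AddCommGroup M] [Module R M] [AddCommGroup M'] [Module R M']

/-- The generating family of a product. -/
def prodFam {n p : ℕ} (x : Fin n → M) (y : Fin p → M') : Fin n ⊕ Fin p → M × M' :=
  Sum.elim (fun i => (x i, 0)) fun j => (0, y j)

theorem sum_prodFam {n p : ℕ} (x : Fin n → M) (y : Fin p → M') (c : Fin n ⊕ Fin p → R) :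
    ∑ i, c i • prodFam x y i = (∑ i, c (Sum.inl i) • x i, ∑ j, c (Sum.inr j) • y j) := by
  rw [Fintype.sum_sum_type, Prod.ext_iff]
  simp [prodFam, Prod.fst_sum, Prod.snd_sum]

theorem J_mul_le_prod {n p : ℕ} (x : Fin n → M) (y : Fin p → M') (a b : ℕ) :
    J (R := R) x a * J y b ≤ J (prodFam x y) (a + b) := by
  rw [J, J, Ideal.span_mul_span']
  refine Ideal.span_le.mpr ?_
  rintro _ ⟨_, ⟨z, e, hz, rfl⟩, _, ⟨z', e', hz', rfl⟩, rfl⟩
  let Z : Fin a ⊕ Fin b → (Fin n ⊕ Fin p → R) :=
    Sum.elim (fun j => Sum.elim (z j) 0) fun j => Sum.elim 0 (z' j)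
  have hZ : ∀ j, ∑ i, Z j i • prodFam x y i = 0 := by
    intro j
    rw [sum_prodFam]
    rcases j with j | j <;> simp [Z, hz, hz']
  have h := det_mem_J (x := prodFam x y) (z := Z ∘ finSumFinEquiv.symm) (fun j => hZ _)
    (Sum.map e e' ∘ finSumFinEquiv.symm)
  rw [show (Matrix.of fun i j => (Z ∘ finSumFinEquiv.symm) j ((Sum.map e e' ∘ finSumFinEquiv.symm) i)) =
      (Matrix.fromBlocks (Matrix.of fun i j => z j (e i)) 0 0 (Matrix.of fun i j => z' j (e' i))).submatrix
        finSumFinEquiv.symm finSumFinEquiv.symm by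
    ext i j
    simp only [Matrix.of_apply, Function.comp_apply, Matrix.submatrix_apply]
    rcases finSumFinEquiv.symm i with i | i <;> rcases finSumFinEquiv.symm j with j | j <;> rfl,
    Matrix.det_submatrix_equiv_self, Matrix.det_fromBlocks_zero₂₁] at h
  exact h

/-- Minors whose entries come from a single relation family. -/
theorem det_mem_J_fintype {ι κ : Type*} [Fintype ι] [Fintype κ] [DecidableEq κ] {x : ι → M}
    (z : κ → (ι → R)) (e : κ → ι) (hz : ∀ j, ∑ i, z j i • x i = 0) :
    (Matrix.of fun a b => z b (e a)).det ∈ J (R := R) x (Fintype.card κ) := by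
  let σ := (Fintype.equivFin κ).symm
  have h := det_mem_J (x := x) (z := z ∘ σ) (fun j => hz _) (e ∘ σ)
  rw [show (Matrix.of fun a b => (z ∘ σ) b ((e ∘ σ) a)) =
      (Matrix.of fun a b => z b (e a)).submatrix σ σ from rfl, Matrix.det_submatrix_equiv_self] at h
  exact h

theorem J_prod_le {n p : ℕ} (x : Fin n → M) (y : Fin p → M') (l : ℕ) :
    J (R := R) (prodFam x y) (n + p - l) ≤
      ∑ k ∈ Finset.range (l + 1), J x (n - k) * J y (p - (l - k)) := by
  classical
  let S : Set (Fin n ⊕ Fin p → R) :=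
    {w | (∀ j, w (Sum.inr j) = 0) ∧ ∑ i, w (Sum.inl i) • x i = 0} ∪
    {w | (∀ i, w (Sum.inl i) = 0) ∧ ∑ j, w (Sum.inr j) • y j = 0}
  obtain ⟨m, hm⟩ : ∃ m, n + p - l = m := ⟨_, rfl⟩
  rw [hm]
  refine J_le_of_span S (fun w hw => ?_) fun z e hz => ?_
  · rw [sum_prodFam, Prod.ext_iff] at hw
    rw [show w = Sum.elim (w ∘ Sum.inl) (0 : Fin p → R) + Sum.elim (0 : Fin n → R) (w ∘ Sum.inr) by
      funext i; rcases i with i | i <;> simp]
    exact add_mem (Submodule.subset_span (Or.inl ⟨fun j => rfl, hw.1⟩))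
      (Submodule.subset_span (Or.inr ⟨fun j => rfl, hw.2⟩))
  by_cases he : Function.Injective e
  swap
  · obtain ⟨i, j, hij, hne⟩ := Function.not_injective_iff.mp he
    rw [Matrix.det_zero_of_row_eq hne (by ext b; simp [hij])]
    exact Submodule.zero_mem _
  let isL : Fin n ⊕ Fin p → Prop := fun i => ∃ i', i = Sum.inl i'
  let colL : Fin m → Prop := fun b =>
    (∀ j, z b (Sum.inr j) = 0) ∧ ∑ i, z b (Sum.inl i) • x i = 0
  have hcolR : ∀ b, ¬ colL b → (∀ i, z b (Sum.inl i) = 0) ∧ ∑ j, z b (Sum.inr j) • y j = 0 :=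
    fun b hb => (hz b).resolve_left fun h => hb h
  by_cases hσ : ∃ σ : Equiv.Perm (Fin m), ∀ b, isL (e (σ b)) ↔ colL b
  swap
  · rw [Matrix.det_apply]
    refine Ideal.sum_mem _ fun σ _ => ?_
    push_neg at hσ
    obtain ⟨b, hb⟩ := hσ σ
    have h0 : z b (e (σ b)) = 0 := by
      rcases hb with ⟨⟨i, hi⟩, hc⟩ | ⟨hr, hc⟩
      · rw [hi]; exact (hcolR b hc).1 i
      · rcases hval : e (σ b) with i | j
        · exact absurd ⟨i, hval⟩ hr
        · exact hc.1 j
    rw [Finset.prod_eq_zero
      (f := fun i => (Matrix.of fun a b => z b (e a) : Matrix (Fin m) (Fin m) R) (σ i) i)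
      (Finset.mem_univ b) h0, smul_zero]
    exact Submodule.zero_mem _
  obtain ⟨σ, hσ⟩ := hσ
  let A : Matrix (Fin m) (Fin m) R := Matrix.of fun a b => z b (e a)
  change A.det ∈ _
  have hA : A.det = ((Equiv.Perm.sign σ : ℤ) : R) * (A.submatrix σ id).det := by
    rw [Matrix.det_permute, ← mul_assoc]
    rcases Int.units_eq_one_or (Equiv.Perm.sign σ) with h | h <;> simp [h]
  rw [hA]
  refine Ideal.mul_mem_left _ _ ?_
  rw [Matrix.twoBlockTriangular_det _ colL fun i hi j hj => ?zero]
  case zero =>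
    rcases hval : e (σ i) with i' | j'
    · exact absurd ((hσ i).1 ⟨i', hval⟩) hi
    · change z j (e (σ i)) = 0
      rw [hval]; exact hj.1 j'
  choose il hil using fun b : {b // colL b} => (hσ b.1).2 b.2
  have hir : ∀ b : {b // ¬ colL b}, ∃ j, e (σ b.1) = Sum.inr j := fun b => by
    rcases hval : e (σ b.1) with i' | j'
    · exact absurd ((hσ b.1).1 ⟨i', hval⟩) b.2
    · exact ⟨j', rfl⟩
  choose jr hjr using hir
  have hl := det_mem_J_fintype (x := x) (fun b : {b // colL b} => fun i => z b.1 (Sum.inl i)) il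
    fun b => b.2.2
  have hr := det_mem_J_fintype (x := y) (fun b : {b // ¬ colL b} => fun j => z b.1 (Sum.inr j)) jr
    fun b => (hcolR b.1 b.2).2
  have h1 : (A.submatrix σ id).toSquareBlockProp colL =
      Matrix.of fun a b : {b // colL b} => z b.1 (Sum.inl (il a)) := by
    ext a b
    change z b.1 (e (σ a.1)) = _
    rw [hil]; rfl
  have h2 : (A.submatrix σ id).toSquareBlockProp (fun i => ¬ colL i) =
      Matrix.of fun a b : {b // ¬ colL b} => z b.1 (Sum.inr (jr a)) := by
    ext a b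
    change z b.1 (e (σ a.1)) = _
    rw [hjr]; rfl
  rw [h1, h2]
  have ha : Fintype.card {b // colL b} ≤ n := by
    refine (Fintype.card_le_of_injective il fun a b hab => Subtype.ext (σ.injective (he ?_))).trans_eq
      (Fintype.card_fin n)
    rw [hil, hil, hab]
  have hb : Fintype.card {b // ¬ colL b} ≤ p := by
    refine (Fintype.card_le_of_injective jr fun a b hab => Subtype.ext (σ.injective (he ?_))).trans_eq
      (Fintype.card_fin p)
    rw [hjr, hjr, hab]
  have hsum : Fintype.card {b // colL b} + Fintype.card {b // ¬ colL b} = m := by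
    rw [Fintype.card_subtype_compl, Nat.add_sub_cancel' (Fintype.card_subtype_le _), Fintype.card_fin]
  have hle : J (R := R) x (Fintype.card {b // colL b}) * J (R := R) y (Fintype.card {b // ¬ colL b}) ≤
      ∑ k ∈ Finset.range (l + 1), J x (n - k) * J y (p - (l - k)) := by
    have hk : min (n - Fintype.card {b // colL b}) l ∈ Finset.range (l + 1) :=
      Finset.mem_range.2 (Nat.lt_succ_of_le (min_le_right _ _))
    refine le_trans ?_ (Finset.single_le_sum (f := fun k => J x (n - k) * J y (p - (l - k)))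
      (fun _ _ => bot_le) hk)
    exact Ideal.mul_mono (J_anti x (by omega)) (J_anti y (by omega))
  exact hle (Ideal.mul_mem_mul hl hr)

theorem ideal_prod [Module.Finite R M] [Module.Finite R M'] (l : ℕ) :
    Fitt.ideal R (M × M') l =
      ∑ k ∈ Finset.range (l + 1), Fitt.ideal R M k * Fitt.ideal R M' (l - k) := by
  classical
  obtain ⟨n, x, hx⟩ := Module.Finite.exists_fin (R := R) (M := M)
  obtain ⟨p, y, hy⟩ := Module.Finite.exists_fin (R := R) (M := M')
  have hw : Submodule.span R (Set.range (prodFam x y ∘ finSumFinEquiv.symm)) = ⊤ := by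
    rw [Set.range_comp, finSumFinEquiv.symm.range_eq_univ, Set.image_univ]
    refine Submodule.eq_top_iff'.2 fun ⟨a, b⟩ => ?_
    obtain ⟨c, rfl⟩ := (Submodule.mem_span_range_iff_exists_fun R).1 (hx.ge (Submodule.mem_top (x := a)))
    obtain ⟨d, rfl⟩ := (Submodule.mem_span_range_iff_exists_fun R).1 (hy.ge (Submodule.mem_top (x := b)))
    exact (Submodule.mem_span_range_iff_exists_fun R).2 ⟨Sum.elim c d, by rw [sum_prodFam]; rfl⟩
  rw [ideal_eq _ hw, J_equiv]
  simp only [ideal_eq x hx, ideal_eq y hy]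
  refine le_antisymm (J_prod_le x y l) ?_
  rw [Ideal.sum_eq_sup]
  refine Finset.sup_le fun k hk => (J_mul_le_prod x y _ _).trans (J_anti _ ?_)
  have := Finset.mem_range.1 hk
  omega

end Groth.Agent.H29Fitt
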