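import Groth.Agent.H29Fitt.Comap
import Groth.Agent.H29Fitt.LocFree
import Groth.Agent.H10Coh.Support
import Groth.Prelude.Def_BlowUp2

/-!
# Strict transforms along blow-ups of Fitting ideals
-/

set_option autoImplicit false

universe u

open CategoryTheory Limits AlgebraicGeometry TopologicalSpace Opposite Matrix

namespace Groth.Agent.H29Fitt

/-- If `Fit_k M = (t)` with `t` regular, then locally `M` is generated by `k` elements up to
`t`-torsion. -/
theorem exists_gen_mod_torsion {R M : Type u} [CommRing R] [AddCommGroup M] [Module R M]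
    [Module.Finite R M] {k : ℕ} {t : R} (ht : t ∈ nonZeroDivisors R)
    (h : Fitt.ideal R M k = Ideal.span {t}) (p : Ideal R) [p.IsPrime] :
    ∃ u : R, u ∉ p ∧ ∃ m : Fin k → M, ∀ y : M, ∃ c : Fin k → R,
      t • (u • y - ∑ j, c j • m j) = 0 := by
  classical
  obtain ⟨n, x, hx⟩ := Module.Finite.exists_fin (R := R) (M := M)
  rw [ideal_eq x hx] at h
  obtain ⟨z, e, hz, u, hdet, hu⟩ : ∃ (z : Fin (n - k) → Fin n → R) (e : Fin (n - k) → Fin n),
      (∀ j, ∑ i, z j i • x i = 0) ∧ ∃ u, (Matrix.of fun a b => z b (e a)).det = t * u ∧ u ∉ p := by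
    by_contra hne
    push_neg at hne
    have hle : J (R := R) x (n - k) ≤ Ideal.span {t} * p := J_le fun z e hz => by
      obtain ⟨u, hu⟩ := Ideal.mem_span_singleton'.1 (h.le (det_mem_J hz e))
      rw [← hu, mul_comm u t]
      exact Ideal.mul_mem_mul (Ideal.mem_span_singleton_self t)
        (hne z e hz u (hu.symm.trans (mul_comm u t)))
    obtain ⟨q, hq, hqt⟩ := Ideal.mem_span_singleton_mul.1 (hle (h.ge (Ideal.mem_span_singleton_self t)))
    have h1 : (q - 1) * t = 0 := by rw [sub_mul, one_mul, mul_comm, hqt, sub_self]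
    have hq1 : q = 1 := sub_eq_zero.1 ((mem_nonZeroDivisors_iff_right.1 ht) _ h1)
    exact ‹p.IsPrime›.ne_top ((Ideal.eq_top_iff_one p).2 (hq1 ▸ hq))
  have he : Function.Injective e := by
    by_contra he
    obtain ⟨i, j, hij, hne⟩ := Function.not_injective_iff.mp he
    rw [Matrix.det_zero_of_row_eq hne (by ext b; simp [hij])] at hdet
    exact hu ((mem_nonZeroDivisors_iff_right.1 ht u (by rw [mul_comm]; exact hdet.symm)) ▸ p.zero_mem)
  set A : Matrix (Fin (n - k)) (Fin (n - k)) R := Matrix.of fun a b => z b (e a)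
  let T : Finset (Fin n) := (Finset.univ.image e)ᶜ
  have hT : T.card ≤ k := by
    rw [Finset.card_compl, Finset.card_image_of_injective _ he, Finset.card_univ, Fintype.card_fin,
      Fintype.card_fin]
    omega
  let m : Fin k → M := fun j => if h : (j : ℕ) < T.card then x (T.equivFin.symm ⟨j, h⟩) else 0
  let P := Submodule.span R (Set.range m)
  have hout : ∀ i ∈ T, x i ∈ P := fun i hi => by
    refine Submodule.subset_span ⟨⟨T.equivFin ⟨i, hi⟩, lt_of_lt_of_le (Fin.is_lt _) hT⟩, ?_⟩
    simp [m]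
  refine ⟨u, hu, m, fun y => ?_⟩
  suffices hy' : ∃ q ∈ P, t • (u • y - q) = 0 by
    obtain ⟨q, hq, hqt⟩ := hy'
    obtain ⟨c, rfl⟩ := (Submodule.mem_span_range_iff_exists_fun R).1 hq
    exact ⟨c, hqt⟩
  have hy : y ∈ Submodule.span R (Set.range x) := hx ▸ Submodule.mem_top
  induction hy using Submodule.span_induction with
  | zero => exact ⟨0, P.zero_mem, by simp⟩
  | add a b _ _ ha hb =>
    obtain ⟨qa, hqa, ha'⟩ := ha
    obtain ⟨qb, hqb, hb'⟩ := hb
    refine ⟨qa + qb, P.add_mem hqa hqb, ?_⟩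
    rw [smul_add, add_sub_add_comm, smul_add, ha', hb', add_zero]
  | smul r a _ ha =>
    obtain ⟨qa, hqa, ha'⟩ := ha
    exact ⟨r • qa, P.smul_mem r hqa, by rw [smul_comm u r, ← smul_sub, smul_comm t r, ha', smul_zero]⟩
  | mem y hy =>
    obtain ⟨i, rfl⟩ := hy
    by_cases hi : i ∈ T
    · exact ⟨u • x i, P.smul_mem u (hout i hi), by rw [sub_self, smul_zero]⟩
    obtain ⟨a, -, rfl⟩ := Finset.mem_image.mp (by simpa [T] using hi : i ∈ Finset.univ.image e)
    have hw : ∀ i' : Fin n, ∃ w : R, w * t = (A.updateRow a fun b => z b i').det := by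
      intro i'
      have h1 := det_mem_J (x := x) hz (Function.update e a i')
      have h2 : (Matrix.of fun a' b => z b (Function.update e a i' a')) =
          A.updateRow a fun b => z b i' := by
        ext a' b
        by_cases hab : a' = a <;> simp [A, hab, Matrix.updateRow_apply]
      rw [h2] at h1
      exact Ideal.mem_span_singleton'.1 (h.le h1)
    choose w hw using hw
    have hsum : ∀ i' : Fin n, ∑ b, A.adjugate b a * z b i' = (A.updateRow a fun b => z b i').det := by
      intro i'
      rw [← Matrix.cramer_transpose_apply, Matrix.cramer_eq_adjugate_mulVec, ← Matrix.adjugate_transpose]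
      rfl
    have htot : ∑ i', (A.updateRow a fun b => z b i').det • x i' = 0 := by
      simp only [← hsum, Finset.sum_smul, mul_smul]
      rw [Finset.sum_comm]
      simp [← Finset.smul_sum, hz]
    rw [← Finset.sum_add_sum_compl (Finset.univ.image e), Finset.sum_image he.injOn,
      Finset.sum_eq_single_of_mem a (Finset.mem_univ a) fun a' _ hne => by
        rw [Matrix.det_zero_of_row_eq (Ne.symm hne) (by ext b; simp [A, Matrix.updateRow_apply, hne]),
          zero_smul]] at htot
    have hAa : A.updateRow a (fun b => z b (e a)) = A := by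
      ext a' b
      by_cases hab : a' = a <;> simp [A, hab, Matrix.updateRow_apply]
    rw [hAa, hdet, mul_smul] at htot
    refine ⟨-∑ i' ∈ T, w i' • x i', P.neg_mem (P.sum_mem fun i' hi' => P.smul_mem _ (hout i' hi')), ?_⟩
    rw [sub_neg_eq_add, smul_add, Finset.smul_sum, ← htot]
    congr 1
    exact Finset.sum_congr rfl fun i' _ => by rw [← hw, smul_smul, mul_comm t (w i')]

variable {X : Scheme.{u}}

/-- A quotient of `M` that kills the `E`-power torsion, where `E = Fit_k M` is effective Cartier, is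
locally generated by `k` sections. -/
theorem exists_generators_quotient (M : X.Modules) (hM : Coh.IsQCoh M) (hft : CohB1.IsFT M)
    {k : ℕ} (hE : BlowUp.IsEffCartierIdeal (Fitt.sheafIdeal M k)) (G : X.Modules) (π : M ⟶ G)
    (hπ : Epi π)
    (hker : ∀ (V : X.affineOpens) (m : M.presheaf.obj (op V.1)),
      BlowUp.KilledByPowerNear (Fitt.sheafIdeal M k) M V m → π.app V.1 m = 0)
    (x : X) : ∃ (U : X.Opens) (hU : IsAffineOpen U) (u t : Γ(X, U)) (m : Fin k → Γ(M, U)),
      x ∈ X.basicOpen u ∧ t ∈ nonZeroDivisors Γ(X, U) ∧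
      (Fitt.sheafIdeal M k).ideal ⟨U, hU⟩ = Ideal.span {t} ∧
      (∀ y : Γ(M, U), ∃ c : Fin k → Γ(X, U), t • (u • y - ∑ j, c j • m j) = 0) ∧
      Epi (basicHom G u fun j => π.app U (m j)) := by
  obtain ⟨⟨U, hU⟩, hxU, t, ht, hI⟩ := hE x
  haveI := finite_sections M hM hft ⟨U, hU⟩
  rw [sheafIdeal_ideal M hM hft] at hI
  obtain ⟨u, hu, m, hm⟩ :=
    exists_gen_mod_torsion ht hI (hU.primeIdealOf ⟨x, hxU⟩).asIdeal
  refine ⟨U, hU, u, t, m, ?_, ht, ?_, hm, ?_⟩
  · rw [X.mem_basicOpen u x hxU]
    by_contra h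
    exact hu ((_root_.H29Blow.mem_primeIdealOf_iff hU ⟨x, hxU⟩ u).mpr h)
  · rw [sheafIdeal_ideal M hM hft]; exact hI
  refine H11Tilde.epi_of_locally_surjective _ fun W s y hy => ?_
  let ι := (X.basicOpen u).ι
  obtain ⟨O, hO, hyO, l, hl⟩ := H10Coh.exists_nhds_lift_of_epi π (ι ''ᵁ W)
    ((G.restrictAppIso ι W).hom s) (ι y) ⟨y, hy, rfl⟩
  obtain ⟨g, V, hV', hyV, hV, hg⟩ := exists_basic_nhd hU u (ι ⁻¹ᵁ O) y hyO
  have hVW : V ≤ W := fun z hz => by
    obtain ⟨z', hz', he⟩ := hO (hV' hz)
    exact ι.isOpenEmbedding.injective he ▸ hz'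
  have hgO : X.basicOpen g ≤ O := by
    rw [← hV]
    rintro _ ⟨z, hz, rfl⟩
    exact hV' hz
  have main : ∀ (D : X.Opens) (hDU : D ≤ U) (hDO : D ≤ O), D = X.basicOpen g →
      G.presheaf.map (homOfLE (hDO.trans hO)).op ((G.restrictAppIso ι W).hom s) ∈
        Submodule.span Γ(X, D) (Set.range fun j =>
          G.presheaf.map (homOfLE hDU).op (π.app U (m j))) := by
    rintro _ hDU hDO rfl
    have hl' : G.presheaf.map (homOfLE (hDO.trans hO)).op ((G.restrictAppIso ι W).hom s) =
        π.app (X.basicOpen g) (M.presheaf.map (homOfLE hDO).op l) := by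
      rw [H11Tilde.app_map_apply, hl, H10Coh.mres_mres]
    rw [hl']
    generalize M.presheaf.map (homOfLE hDO).op l = l'
    obtain ⟨N, l₀, hl₀⟩ := H29Blow.exists_pow_smul_eq_res M hM hU g l'
    obtain ⟨c, hc⟩ := hm l₀
    let rres := (X.presheaf.map (homOfLE (X.basicOpen_le g)).op).hom
    let res := M.presheaf.map (homOfLE (X.basicOpen_le g)).op
    have hgu : IsUnit (rres g) := RingedSpace.isUnit_res_basicOpen X.toRingedSpace g
    have huu : IsUnit (rres u) := by
      have h := (RingedSpace.isUnit_res_basicOpen X.toRingedSpace u).map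
        (X.presheaf.map (homOfLE hg).op).hom
      change IsUnit ((X.presheaf.map (homOfLE (X.basicOpen_le g)).op).hom u)
      rw [show X.presheaf.map (homOfLE (X.basicOpen_le g)).op =
        X.presheaf.map (homOfLE (X.basicOpen_le u)).op ≫ X.presheaf.map (homOfLE hg).op by
          rw [← Functor.map_comp]; rfl]
      exact h
    have hzero : π.app (X.basicOpen g) (res (u • l₀ - ∑ j, c j • m j)) = 0 := by
      refine hker ⟨X.basicOpen g, hU.basicOpen g⟩ _ ⟨1, fun a ha => ?_⟩
      rw [pow_one, sheafIdeal_ideal M hM hft,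
        ← map_ideal_basicOpen M hM hft k ⟨U, hU⟩ g, hI, Ideal.map_span, Set.image_singleton,
        Ideal.mem_span_singleton'] at ha
      obtain ⟨r, rfl⟩ := ha
      rw [mul_smul]
      refine (congrArg (r • ·) ?_).trans (smul_zero r)
      exact (Scheme.Modules.map_smul M _ t _).symm.trans ((congrArg res hc).trans (map_zero _))
    have key : (rres u * rres g ^ N) • π.app (X.basicOpen g) l' =
        ∑ j, rres (c j) • G.presheaf.map (homOfLE hDU).op (π.app U (m j)) := by
      rw [map_sub, map_sub, sub_eq_zero] at hzero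
      rw [mul_smul, ← map_pow rres g N, ← Scheme.Modules.Hom.app_smul π (U := X.basicOpen g),
        ← Scheme.Modules.Hom.app_smul π (U := X.basicOpen g)]
      refine Eq.trans (congrArg (π.app (X.basicOpen g)) ?_) (hzero.trans ?_)
      · rw [show res (u • l₀) = rres u • res l₀ from Scheme.Modules.map_smul M _ _ _]
        exact congrArg (rres u • ·) hl₀.symm
      · rw [map_sum, map_sum]
        refine Finset.sum_congr rfl fun j _ => ?_
        rw [show res (c j • m j) = rres (c j) • res (m j) from Scheme.Modules.map_smul M _ _ _,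
          Scheme.Modules.Hom.app_smul, H11Tilde.app_map_apply]
    exact (Submodule.smul_mem_iff_of_isUnit _ (huu.mul (hgu.pow N))).1
      (key ▸ Submodule.sum_mem _ fun j _ => Submodule.smul_mem _ _ (Submodule.subset_span ⟨j, rfl⟩))
  have hsp := main (ι ''ᵁ V) ((ι.image_mono le_top).trans ((ι.image_top_eq_opensRange.trans
    (Scheme.Opens.opensRange_ι _)).le.trans (X.basicOpen_le u))) (hV ▸ hgO) hV
  obtain ⟨c, hc⟩ := (Submodule.mem_span_range_iff_exists_fun _).1 hsp
  refine ⟨V, hVW, hyV, ∑ j, (ι.appIso V).hom (c j) • gen _ k j V, ?_⟩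
  have h2 := congrArg (G.restrictAppIso ι V).inv hc
  rw [map_sum] at h2
  simp only [Scheme.Modules.smul_restrictAppIso_inv_apply] at h2
  rw [map_sum]
  simp only [Scheme.Modules.Hom.app_smul, basicHom_gen]
  exact h2

end Groth.Agent.H29Fitt
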