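import Groth.Agent.H29Fitt.StrictTransform
import Groth.Agent.H29Fitt.FP

/-!
# Strict transforms that are finite locally free
-/

set_option autoImplicit false

universe u

open CategoryTheory Limits AlgebraicGeometry TopologicalSpace Opposite

namespace Groth.Agent.H29Fitt

/-- Fitting ideal sheaves only depend on the isomorphism class. -/
theorem sheafIdeal_congr {X : Scheme.{u}} {F F' : X.Modules} (e : F ≅ F') (hF : Coh.IsQCoh F)
    (hft : CohB1.IsFT F) (k : ℕ) : Fitt.sheafIdeal F k = Fitt.sheafIdeal F' k := by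
  refine congrArg Scheme.IdealSheafData.ofIdeals (funext fun U => ?_)
  haveI := finite_sections F hF hft U
  exact ideal_congr (LinearEquiv.ofBijective (appLin e.hom U.1)
    (ConcreteCategory.bijective_of_isIso (e.hom.app U.1) :)) k

/-- If `F` is locally free of rank `k` on an open, the lower Fitting ideals vanish there. -/
theorem comap_sheafIdeal_eq_bot {X : Scheme.{u}} (F : X.Modules) (hF : Coh.IsQCoh F)
    (hft : CohB1.IsFT F) (O : X.Opens) {k : ℕ} (hfree : FlatMod.IsFinLocFreeOfRank k (F.restrict O.ι))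
    {j : ℕ} (hj : j < k) : (Fitt.sheafIdeal F j).comap O.ι = ⊥ := by
  let e := (Scheme.Modules.restrictFunctorIsoPullback O.ι).app F
  have hq := isQCoh_pullback O.ι F hF
  have hft' := isFT_pullback O.ι F hF hft
  have hfree' : FlatMod.IsFinLocFreeOfRank k ((Scheme.Modules.pullback O.ι).obj F) := fun x => by
    obtain ⟨U, hx, ⟨φ⟩⟩ := hfree x
    exact ⟨U, hx, ⟨(Scheme.Modules.restrictFunctor U.ι).mapIso e.symm ≪≫ φ⟩⟩
  rw [sheafIdeal_comap O.ι F hF hft]
  exact ((isFinLocFreeOfRank_iff _ hq hft' k).1 hfree').1 j hj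

/-- Ideal sheaves vanishing after restriction to an open vanish on the affine opens inside it. -/
theorem ideal_eq_bot_of_comap_ι {X : Scheme.{u}} (I : X.IdealSheafData) (O : X.Opens)
    (h : I.comap O.ι = ⊥) (V : X.affineOpens) (hV : V.1 ≤ O) : I.ideal V = ⊥ := by
  haveI : IsAffine (V.1 : Scheme.{u}) := V.2
  have h1 : I.comap V.1.ι = ⊥ := by
    rw [← X.homOfLE_ι hV, Scheme.IdealSheafData.comap_comp, h, Scheme.IdealSheafData.comap_bot]
  have h2 := H29Blow.ideal_comap_ι I V
  rw [h1, Scheme.IdealSheafData.ideal_bot] at h2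
  exact (Ideal.map_eq_bot_iff_of_injective
    (ConcreteCategory.bijective_of_isIso V.1.topIso.inv).1).1 h2.symm

theorem isFinLocFreeOfRank_quotient {X : Scheme.{u}} (M : X.Modules) (hM : Coh.IsQCoh M)
    (hft : CohB1.IsFT M) {k : ℕ} (hE : BlowUp.IsEffCartierIdeal (Fitt.sheafIdeal M k))
    (G : X.Modules) (π : M ⟶ G) (hπ : Epi π)
    (hker : ∀ (V : X.affineOpens) (m : M.presheaf.obj (op V.1)),
      π.app V.1 m = 0 ↔ BlowUp.KilledByPowerNear (Fitt.sheafIdeal M k) M V m)
    (hzero : ∀ j < k, (Fitt.sheafIdeal M j).comap (Scheme.Opens.ι (Fitt.sheafIdeal M k).support.compl) = ⊥) :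
    FlatMod.IsFinLocFreeOfRank k G := by
  intro x
  obtain ⟨U, hU, u, t, m, hx, ht, hI, hm, hepi⟩ :=
    exists_generators_quotient M hM hft hE G π hπ (fun V m h => (hker V m).2 h) x
  let ι := (X.basicOpen u).ι
  let φ := basicHom G u fun j => π.app U (m j)
  have key : ∀ (g : Γ(X, U)), X.basicOpen g ≤ X.basicOpen u → ∀ (D : X.Opens) (hDU : D ≤ U),
      D = X.basicOpen g → ∀ c : Fin k → Γ(X, D),
        ∑ j, c j • G.presheaf.map (homOfLE hDU).op (π.app U (m j)) = 0 → c = 0 := by
    rintro g hg _ hDU rfl c hc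
    have haff := hU.basicOpen g
    have hπ0 : π.app (X.basicOpen g)
        (∑ j, c j • M.presheaf.map (homOfLE hDU).op (m j)) = 0 := by
      rw [map_sum]
      simpa only [Scheme.Modules.Hom.app_smul, H11Tilde.app_map_apply] using hc
    obtain ⟨n, hn⟩ := (hker ⟨_, haff⟩ _).1 hπ0
    let rres := (X.presheaf.map (homOfLE hDU).op).hom
    have htn : rres t ^ n • ∑ j, c j • M.presheaf.map (homOfLE hDU).op (m j) = 0 := by
      refine hn _ ?_
      rw [Scheme.IdealSheafData.ideal_pow]
      refine Ideal.pow_mem_pow ?_ n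
      have hmem := Ideal.mem_map_of_mem rres (hI.ge (Ideal.mem_span_singleton_self t))
      rwa [show Ideal.map rres ((Fitt.sheafIdeal M k).ideal ⟨U, hU⟩) = _ from
        (Fitt.sheafIdeal M k).map_ideal (U := ⟨X.basicOpen g, haff⟩) (V := ⟨U, hU⟩) hDU] at hmem
    have hD'g : (X.basicOpen (g * t)) ≤ X.basicOpen g := by
      rw [show (X.basicOpen (g * t)) = X.basicOpen g ⊓ X.basicOpen t from X.basicOpen_mul g t]; exact inf_le_left
    have hD't : (X.basicOpen (g * t)) ≤ X.basicOpen t := by
      rw [show (X.basicOpen (g * t)) = X.basicOpen g ⊓ X.basicOpen t from X.basicOpen_mul g t]; exact inf_le_right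
    have hoff : (X.basicOpen (g * t)) ≤ (Fitt.sheafIdeal M k).support.compl := by
      intro y hy hys
      have hyU : y ∈ U := X.basicOpen_le _ hy
      have h := (Scheme.IdealSheafData.mem_support_iff_of_mem (U := ⟨U, hU⟩) hyU).1 hys
      rw [Scheme.mem_zeroLocus_iff] at h
      exact h t (hI.ge (Ideal.mem_span_singleton_self t)) (hD't hy)
    haveI := finite_sections M hM hft ⟨(X.basicOpen (g * t)), hU.basicOpen _⟩
    have hsp : SpansUpTo (Submonoid.powers (u * t)) m := fun y => by
      obtain ⟨c', hc'⟩ := hm y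
      refine ⟨u * t, Submonoid.mem_powers _, ?_⟩
      rw [smul_sub, sub_eq_zero] at hc'
      rw [mul_comm, mul_smul, hc']
      exact Submodule.smul_mem _ _
        (Submodule.sum_mem _ fun j _ => Submodule.smul_mem _ _ (Submodule.subset_span ⟨j, rfl⟩))
    have hspan : Submodule.span Γ(X, (X.basicOpen (g * t)))
        (Set.range fun j => M.presheaf.map (homOfLE (X.basicOpen_le (g * t))).op (m j)) = ⊤ :=
      span_basicOpen_of_spansUpTo M hM hU hsp (by
        rw [X.basicOpen_mul u t]; exact le_inf (hD'g.trans hg) hD't)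
    have hbot : ∀ j < k, Fitt.ideal Γ(X, (X.basicOpen (g * t))) Γ(M, (X.basicOpen (g * t))) j = ⊥ := fun j hj => by
      rw [← sheafIdeal_ideal M hM hft j ⟨(X.basicOpen (g * t)), hU.basicOpen _⟩]
      exact ideal_eq_bot_of_comap_ι _ _ (hzero j hj) ⟨X.basicOpen (g * t), hU.basicOpen _⟩ hoff
    let res' := (X.presheaf.map (homOfLE hD'g).op).hom
    have hc' := eq_zero_of_ideal_eq_bot _ hspan hbot (fun j => res' (rres t ^ n * c j)) (by
      have h := congrArg (M.presheaf.map (homOfLE hD'g).op) htn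
      rw [map_zero, Finset.smul_sum, map_sum] at h
      refine Eq.trans (Finset.sum_congr rfl fun j _ => ?_) h
      rw [smul_smul, Scheme.Modules.map_smul, H10Coh.mres_mres])
    funext j
    have hu' : IsUnit (res' (rres t)) := by
      have h := (RingedSpace.isUnit_res_basicOpen X.toRingedSpace t).map
        (X.presheaf.map (homOfLE hD't).op).hom
      have e : res' (rres t) = (X.presheaf.map (homOfLE hD't).op).hom
          (X.presheaf.map (homOfLE (X.basicOpen_le t)).op t) :=
        (H10Coh.rres_rres hDU hD'g t).trans (H10Coh.rres_rres (X.basicOpen_le t) hD't t).symm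
      rw [e]; exact h
    have h0 : res' (c j) = 0 := by
      have h := congrFun hc' j
      simp only [Pi.zero_apply, map_mul, map_pow] at h
      exact (hu'.pow n).mul_right_eq_zero.1 h
    haveI : IsLocalization.Away (rres t) Γ(X, X.basicOpen (rres t)) :=
      haff.isLocalization_basicOpen _
    have hle : X.basicOpen (rres t) ≤ (X.basicOpen (g * t)) := by
      rw [show (X.basicOpen (g * t)) = X.basicOpen g ⊓ X.basicOpen t from X.basicOpen_mul g t]
      exact (X.basicOpen_res t (homOfLE hDU).op).le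
    have h00 : algebraMap Γ(X, X.basicOpen g) Γ(X, X.basicOpen (rres t)) (c j) = 0 := by
      have h := congrArg (X.presheaf.map (homOfLE hle).op) h0
      rw [map_zero] at h
      exact (H10Coh.rres_rres hD'g hle (c j)).symm.trans h
    obtain ⟨⟨_, N, rfl⟩, hN⟩ :=
      (IsLocalization.map_eq_zero_iff (Submonoid.powers (rres t)) _ _).1 h00
    have hnzd : rres t ∈ nonZeroDivisors Γ(X, X.basicOpen g) := by
      haveI := hU.isLocalization_basicOpen g
      exact IsLocalization.map_nonZeroDivisors_le (Submonoid.powers g) _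
        (Submonoid.mem_map_of_mem _ ht)
    exact (mem_nonZeroDivisors_iff_right.1 (pow_mem hnzd N)) _ ((mul_comm _ _).trans hN)
  have hmono : Mono φ := by
    refine H11Tilde.mono_of_injective _ fun W s hs y hy => ?_
    obtain ⟨g, V, hVW, hyV, hV, hg⟩ := exists_basic_nhd hU u W y hy
    refine ⟨V, hVW, hyV, ?_⟩
    obtain ⟨c, hc⟩ := exists_eq_sum_gen (X := (↑(X.basicOpen u) : Scheme.{u})) k V
      ((FlatMod.freeMod (↑(X.basicOpen u)) k).presheaf.map (homOfLE hVW).op s)
    have hsum : ∑ j, c j • φ.app V (gen _ k j V) = 0 := by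
      have h := congrArg (φ.app V) hc
      rw [H11Tilde.app_map_apply, hs, map_zero, map_sum] at h
      simp only [Scheme.Modules.Hom.app_smul] at h
      exact h
    have h' := congrArg (G.restrictAppIso ι V).hom.hom hsum
    rw [map_sum, map_zero] at h'
    simp only [φ, basicHom_gen] at h'
    have hc0 := key g hg (ι ''ᵁ V) (((X.basicOpen u).ι_image_le V).trans (X.basicOpen_le u)) hV
      (fun j => (ι.appIso V).inv (c j)) h'
    rw [← hc]
    refine Finset.sum_eq_zero fun j _ => ?_
    rw [show c j = 0 from (ConcreteCategory.bijective_of_isIso (ι.appIso V).inv).1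
      ((congrFun hc0 j).trans (map_zero (ι.appIso V).inv.hom).symm), zero_smul]
  haveI := hepi
  haveI := isIso_of_mono_of_epi φ
  exact ⟨X.basicOpen u, hx, ⟨(asIso φ).symm⟩⟩

theorem isFinLocFreeOfRank_strictTransform {S S' : Scheme.{u}} (F : S.Modules) (hF : Coh.IsQCoh F)
    (hft : CohB1.IsFT F) (k : ℕ) (O : S.Opens)
    (hfree : FlatMod.IsFinLocFreeOfRank k (F.restrict O.ι))
    (b : S' ⟶ S) (hb : BlowUp.IsBlowUp b (Fitt.sheafIdeal F k)) (G : S'.Modules)
    (π : (Scheme.Modules.pullback b).obj F ⟶ G)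
    (hG : BlowUp.IsStrictTransform b (Fitt.sheafIdeal F k) F G π)
    (hO : (Fitt.sheafIdeal F k).support.compl ≤ O) :
    FlatMod.IsFinLocFreeOfRank k G := by
  have hc := sheafIdeal_comap b F hF hft k
  have hE : BlowUp.IsEffCartierIdeal (Fitt.sheafIdeal ((Scheme.Modules.pullback b).obj F) k) :=
    hc ▸ hb.1
  refine isFinLocFreeOfRank_quotient _ (isQCoh_pullback b F hF) (isFT_pullback b F hF hft) hE G π hG.1
    (fun V m => (hG.2 V m).trans (by rw [BlowUp.exceptional, hc])) fun j hj => ?_
  rw [← sheafIdeal_comap b F hF hft, ← sheafIdeal_comap b F hF hft,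
    ← Scheme.IdealSheafData.comap_comp]
  let W := ((Fitt.sheafIdeal F k).comap b).support.compl
  have hW : W ≤ b ⁻¹ᵁ O := fun y hy => hO fun hys => hy (by
    rw [Scheme.IdealSheafData.support_comap]; exact hys)
  rw [← Scheme.Hom.resLE_comp_ι b hW, Scheme.IdealSheafData.comap_comp,
    comap_sheafIdeal_eq_bot F hF hft O hfree hj, Scheme.IdealSheafData.comap_bot]

end Groth.Agent.H29Fitt
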